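import Groth.Agent.UnivThick.Scheme
import Mathlib.AlgebraicGeometry.Gluing
import Mathlib.CategoryTheory.LocallyDirected

/-! Existence of universal first order thickenings. -/

universe u

open CategoryTheory Limits AlgebraicGeometry

namespace Groth.Agent.UnivThick

variable {Z X : Scheme.{u}}

theorem exists_univThickening_of_affine (h : Z ⟶ X) [FormallyUnramified h] {V : Z.Opens}
    (hV : IsAffineOpen V) {U : X.Opens} (hU : IsAffineOpen U) (e : V ≤ h ⁻¹ᵁ U) :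
    ∃ (Z' : Scheme.{u}) (i : V.toScheme ⟶ Z') (h' : Z' ⟶ X), OmegaSh.IsUnivThickening (V.ι ≫ h) i h' := by
  let := (h.appLE U V e).hom.toAlgebra
  have : Algebra.FormallyUnramified Γ(X, U) Γ(Z, V) := h.formallyUnramified_appLE hU hV e
  obtain ⟨S', _, _, π, hπ⟩ := exists_univThickeningRing Γ(X, U) Γ(Z, V)
  refine ⟨Spec (CommRingCat.of S'), hV.isoSpec.hom ≫ Spec.map (CommRingCat.ofHom π.toRingHom),
    Spec.map (CommRingCat.ofHom (algebraMap Γ(X, U) S')) ≫ hU.fromSpec, ?_⟩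
  have h1 := isUniv_of_iso hV.isoSpec (Iso.refl _) (hV.isoSpec.hom ≫ Spec.map (CommRingCat.ofHom π.toRingHom))
    (by rw [Iso.refl_hom]; exact (Category.comp_id _).symm) (isUniv_comp_open hU.fromSpec (isUniv_Spec π hπ))
  refine isUniv_congr ?_ (Category.id_comp _) h1
  change hV.isoSpec.hom ≫ Spec.map (h.appLE U V e) ≫ hU.fromSpec = _
  rw [IsAffineOpen.SpecMap_appLE_fromSpec h hU hV e, IsAffineOpen.isoSpec_hom_fromSpec_assoc]

theorem exists_transition (h : Z ⟶ X) {V W : Z.Opens} (hVW : V ≤ W) {ZV ZW : Scheme.{u}}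
    {iV : V.toScheme ⟶ ZV} {hV : ZV ⟶ X} {iW : W.toScheme ⟶ ZW} {hW : ZW ⟶ X}
    (huV : OmegaSh.IsUnivThickening (V.ι ≫ h) iV hV) (huW : OmegaSh.IsUnivThickening (W.ι ≫ h) iW hW) :
    ∃ m : ZV ⟶ ZW, IsOpenImmersion m ∧ iV ≫ m = Z.homOfLE hVW ≫ iW ∧ m ≫ hW = hV := by
  have := huW.1.1.1
  have := huW.1.1.2
  have hopen : IsOpen (iW '' (W.ι ⁻¹ᵁ V : Set W.toScheme)) :=
    (iW.isClosedEmbedding.toIsEmbedding.toHomeomorphOfSurjective iW.surjective).isOpenMap _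
      (W.ι ⁻¹ᵁ V).isOpen
  let W' : ZW.Opens := ⟨_, hopen⟩
  have hpre : iW ⁻¹ᵁ W' = W.ι ⁻¹ᵁ V :=
    TopologicalSpace.Opens.ext (Set.preimage_image_eq _ iW.isClosedEmbedding.injective)
  have hr : Set.range V.ι = Set.range ((iW ⁻¹ᵁ W').ι ≫ W.ι) := by
    rw [Scheme.Opens.range_ι]
    ext z
    constructor
    · intro hz
      have hm : (⟨z, hVW hz⟩ : W.toScheme) ∈ iW ⁻¹ᵁ W' := by rw [hpre]; exact hz
      exact ⟨⟨_, hm⟩, rfl⟩
    · rintro ⟨⟨q, hq⟩, rfl⟩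
      rw [hpre] at hq
      exact hq
  let e := IsOpenImmersion.isoOfRangeEq V.ι ((iW ⁻¹ᵁ W').ι ≫ W.ι) hr
  have he : e.hom ≫ (iW ⁻¹ᵁ W').ι ≫ W.ι = V.ι := IsOpenImmersion.isoOfRangeEq_hom_fac _ _ _
  have h1 := isUniv_of_iso e (Iso.refl _) (e.hom ≫ iW ∣_ W') (by simp) (isUniv_open huW W')
  obtain ⟨ε, hε1, hε2⟩ := exists_iso_of_isUniv huV
    (isUniv_congr (by rw [reassoc_of% he]) (Category.id_comp _) h1)
  refine ⟨ε.hom ≫ W'.ι, inferInstance, ?_, by rw [Category.assoc, hε2]⟩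
  rw [reassoc_of% hε1, morphismRestrict_ι]
  have : e.hom ≫ (iW ⁻¹ᵁ W').ι = Z.homOfLE hVW := by
    rw [← cancel_mono W.ι, Category.assoc, he, Scheme.homOfLE_ι]
  rw [reassoc_of% this]

theorem isFirstOrderThickening_of_cover {Z Z' : Scheme.{u}} (i : Z ⟶ Z') {ι : Type u} (R : ι → Z'.Opens)
    (hR : iSup R = ⊤) (H : ∀ k, MoreMor.IsFirstOrderThickening (i ∣_ R k)) :
    MoreMor.IsFirstOrderThickening i := by
  have hc : IsClosedImmersion i :=
    IsZariskiLocalAtTarget.of_iSup_eq_top (P := @IsClosedImmersion) R hR fun k => (H k).1.1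
  have hs : Surjective i :=
    IsZariskiLocalAtTarget.of_iSup_eq_top (P := @Surjective) R hR fun k => (H k).1.2
  refine ⟨⟨hc, hs⟩, ?_⟩
  refine Scheme.IdealSheafData.ext_of_iSup_eq_top
    (fun p : {Ω : Z'.affineOpens // ∃ k, Ω.1 ≤ R k} => p.1) ?_ ?_
  · refine top_le_iff.1 fun x _ => ?_
    obtain ⟨k, hk⟩ := TopologicalSpace.Opens.mem_iSup.1 (hR.ge (trivial : x ∈ (⊤ : Z'.Opens)))
    obtain ⟨Ω, hΩ, hxΩ, hle⟩ := exists_isAffineOpen_mem_and_subset hk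
    exact TopologicalSpace.Opens.mem_iSup.2 ⟨⟨⟨Ω, hΩ⟩, k, hle⟩, hxΩ⟩
  · rintro ⟨⟨Ω, hΩ⟩, k, hle⟩
    have hΩ₀ : IsAffineOpen ((R k).ι ⁻¹ᵁ Ω) :=
      ((R k).ι.isAffineOpen_iff_of_isOpenImmersion).1 (by
        rw [Scheme.Hom.image_preimage_eq_opensRange_inf, Scheme.Opens.opensRange_ι, inf_eq_right.2 hle]
        exact hΩ)
    have h2 := congr(($((H k).2)).ideal ⟨(R k).ι ⁻¹ᵁ Ω, hΩ₀⟩)
    have himg : (R k).ι ''ᵁ ((R k).ι ⁻¹ᵁ Ω) = Ω := by
      rw [Scheme.Hom.image_preimage_eq_opensRange_inf, Scheme.Opens.opensRange_ι, inf_eq_right.2 hle]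
    have hker : (i ∣_ R k).ker.ideal ⟨(R k).ι ⁻¹ᵁ Ω, hΩ₀⟩ =
        RingHom.ker (i.app ((R k).ι ''ᵁ ((R k).ι ⁻¹ᵁ Ω))).hom := by
      rw [Scheme.Hom.ker_apply, morphismRestrict_app]
      exact RingHom.ker_comp_of_injective _ (ConcreteCategory.bijective_of_isIso _).1
    simp only [Scheme.IdealSheafData.ideal_mul, Pi.mul_apply,
      Scheme.IdealSheafData.ideal_bot, Pi.bot_apply] at h2 ⊢
    rw [hker] at h2
    rw [Scheme.Hom.ker_apply]
    have e : ∀ Ω' : Z'.Opens, Ω' = Ω → RingHom.ker (i.app Ω').hom * RingHom.ker (i.app Ω').hom = ⊥ →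
        RingHom.ker (i.app Ω).hom * RingHom.ker (i.app Ω).hom = ⊥ := by
      rintro _ rfl h
      exact h
    exact e _ himg h2

/-- A formally unramified morphism has a universal first order thickening. -/
theorem exists_univThickening (h : Z ⟶ X) [FormallyUnramified h] :
    ∃ (Z' : Scheme.{u}) (i : Z ⟶ Z') (h' : Z' ⟶ X), OmegaSh.IsUnivThickening h i h' := by
  let J := {V : Z.Opens // IsAffineOpen V ∧ ∃ U : X.Opens, IsAffineOpen U ∧ V ≤ h ⁻¹ᵁ U}
  have hbasis : ∀ (z : Z) (O : Z.Opens), z ∈ O → ∃ V : J, z ∈ V.1 ∧ V.1 ≤ O := by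
    intro z O hz
    obtain ⟨U, hU, hzU, -⟩ := exists_isAffineOpen_mem_and_subset (x := h z) (U := ⊤) trivial
    obtain ⟨V, hV, hzV, hle⟩ := exists_isAffineOpen_mem_and_subset (x := z) (U := O ⊓ h ⁻¹ᵁ U) ⟨hz, hzU⟩
    exact ⟨⟨V, hV, U, hU, fun x hx => (hle hx).2⟩, hzV, fun x hx => (hle hx).1⟩
  choose Zp ip hp hup using fun V : J =>
    exists_univThickening_of_affine h V.2.1 V.2.2.choose_spec.1 V.2.2.choose_spec.2
  choose m hmo hm1 hm2 using fun (V W : J) (hVW : V ≤ W) => exists_transition h hVW (hup V) (hup W)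
  let F : J ⥤ Scheme.{u} :=
    { obj := Zp
      map := fun {V W} f => m V W f.le
      map_id := fun V => univ_hom_ext (hup V) (hup V).1 (𝟙 _)
        (by rw [hm1, Scheme.homOfLE_rfl]) (by simp) (by rw [hm2, Category.id_comp])
      map_comp := fun {V W K} f g => univ_hom_ext (hup K) (hup V).1 (Z.homOfLE (f ≫ g).le)
        (hm1 _ _ _) (by rw [reassoc_of% (hm1 V W f.le), hm1, Scheme.homOfLE_homOfLE_assoc])
        (by rw [hm2, Category.assoc, hm2, hm2]) }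
  have : ∀ {V W : J} (f : V ⟶ W), IsOpenImmersion (F.map f) := fun f => hmo _ _ _
  have hinj : ∀ V : J, Function.Injective (ip V) := fun V => by
    have := (hup V).1.1.1
    exact (ip V).isClosedEmbedding.injective
  have hsurj : ∀ V : J, Function.Surjective (ip V) := fun V => (hup V).1.1.2.surj
  have hm1' : ∀ {V W : J} (hVW : V ≤ W) (z : V.1.toScheme), m V W hVW (ip V z) = ip W (Z.homOfLE hVW z) :=
    fun hVW z => by
      rw [← Scheme.Hom.comp_apply, hm1, Scheme.Hom.comp_apply]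
  have : (F ⋙ Scheme.forget).IsLocallyDirected := by
    refine ⟨fun {V W K} fi fj xi xj e => ?_⟩
    obtain ⟨z₁, rfl⟩ := hsurj V xi
    obtain ⟨z₂, rfl⟩ := hsurj W xj
    change m V K fi.le (ip V z₁) = m W K fj.le (ip W z₂) at e
    rw [hm1', hm1'] at e
    have e' := congrArg K.1.ι (hinj K e)
    rw [← Scheme.Hom.comp_apply, ← Scheme.Hom.comp_apply, Scheme.homOfLE_ι, Scheme.homOfLE_ι] at e'
    obtain ⟨L, hzL, hL⟩ := hbasis (V.1.ι z₁) (V.1 ⊓ W.1) ⟨z₁.2, by rw [e']; exact z₂.2⟩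
    have hLV : L ≤ V := fun x hx => (hL hx).1
    have hLW : L ≤ W := fun x hx => (hL hx).2
    let q : L.1.toScheme := (⟨_, hzL⟩ : L.1)
    refine ⟨L, homOfLE hLV, homOfLE hLW, ip L q, ?_, ?_⟩
    · change m L V hLV (ip L q) = _
      refine (hm1' hLV _).trans ?_
      congr 1
      apply V.1.ι.isOpenEmbedding.injective
      change (Z.homOfLE hLV ≫ V.1.ι) q = V.1.ι z₁
      rw [Scheme.homOfLE_ι]
      rfl
    · change m L W hLW (ip L q) = _
      refine (hm1' hLW _).trans ?_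
      congr 1
      apply W.1.ι.isOpenEmbedding.injective
      change (Z.homOfLE hLW ≫ W.1.ι) q = W.1.ι z₂
      rw [Scheme.homOfLE_ι]
      exact e'
  let κ : ∀ V : J, Zp V ⟶ colimit F := fun V => colimit.ι F V
  have hκ : ∀ {V W : J} (hVW : V ≤ W), m V W hVW ≫ κ W = κ V := fun hVW => colimit.w F (homOfLE hVW)
  have hcov : iSup (fun V : J => V.1) = (⊤ : Z.Opens) := top_le_iff.1 fun z _ => by
    obtain ⟨V, hV, -⟩ := hbasis z ⊤ trivial
    exact TopologicalSpace.Opens.mem_iSup.2 ⟨V, hV⟩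
  let 𝒰 : Z.OpenCover := Z.openCoverOfIsOpenCover (fun V : J => V.1) hcov
  have hcompat : ∀ V W : J, pullback.fst V.1.ι W.1.ι ≫ ip V ≫ κ V = pullback.snd _ _ ≫ ip W ≫ κ W := by
    intro V W
    refine Scheme.hom_ext_of_forall _ _ fun z => ?_
    let p := pullback.fst V.1.ι W.1.ι ≫ V.1.ι
    have hp1 : p z ∈ V.1 := (pullback.fst V.1.ι W.1.ι z).2
    have hp2 : p z ∈ W.1 := by
      rw [show p = pullback.snd V.1.ι W.1.ι ≫ W.1.ι from pullback.condition]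
      exact (pullback.snd V.1.ι W.1.ι z).2
    obtain ⟨L, hzL, hL⟩ := hbasis (p z) (V.1 ⊓ W.1) ⟨hp1, hp2⟩
    have hLV : L ≤ V := fun x hx => (hL hx).1
    have hLW : L ≤ W := fun x hx => (hL hx).2
    refine ⟨p ⁻¹ᵁ L.1, hzL, ?_⟩
    have e1 : (p ⁻¹ᵁ L.1).ι ≫ pullback.fst V.1.ι W.1.ι = (p ∣_ L.1) ≫ Z.homOfLE hLV := by
      rw [← cancel_mono V.1.ι, Category.assoc, Category.assoc, Scheme.homOfLE_ι]
      exact (morphismRestrict_ι p L.1).symm
    have e2 : (p ⁻¹ᵁ L.1).ι ≫ pullback.snd V.1.ι W.1.ι = (p ∣_ L.1) ≫ Z.homOfLE hLW := by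
      rw [← cancel_mono W.1.ι, Category.assoc, Category.assoc, Scheme.homOfLE_ι, ← pullback.condition]
      exact (morphismRestrict_ι p L.1).symm
    rw [reassoc_of% e1, reassoc_of% e2, ← reassoc_of% (hm1 L V hLV), ← reassoc_of% (hm1 L W hLW), hκ, hκ]
  let i : Z ⟶ colimit F := 𝒰.glueMorphisms (fun V => ip V ≫ κ V) hcompat
  have hi : ∀ V : J, V.1.ι ≫ i = ip V ≫ κ V := fun V => 𝒰.ι_glueMorphisms _ hcompat V
  let h' : colimit F ⟶ X := colimit.desc F
    { pt := X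
      ι := { app := hp, naturality := fun V W f => by
              change m V W f.le ≫ hp W = hp V ≫ 𝟙 X
              rw [hm2, Category.comp_id] } }
  have hh' : ∀ V : J, κ V ≫ h' = hp V := fun V => colimit.ι_desc _ V
  have hpre : ∀ V : J, i ⁻¹ᵁ (κ V).opensRange = V.1 := fun V => by
    ext z
    obtain ⟨W, hzW, -⟩ := hbasis z ⊤ trivial
    let zW : W.1.toScheme := (⟨z, hzW⟩ : W.1)
    have hz : i z = κ W (ip W zW) := congr($(hi W) zW)
    constructor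
    · rintro ⟨y, hy⟩
      obtain ⟨L, fi, fj, x, hx1, -⟩ := Scheme.IsLocallyDirected.ι_eq_ι_iff F |>.1 (hz.symm.trans hy.symm)
      obtain ⟨z', rfl⟩ := hsurj L x
      change m L W fi.le (ip L z') = _ at hx1
      rw [hm1'] at hx1
      have := congrArg W.1.ι (hinj W hx1)
      rw [← Scheme.Hom.comp_apply, Scheme.homOfLE_ι] at this
      have hz' : L.1.ι z' = z := this
      exact hz' ▸ fj.le z'.2
    · intro hzV
      let zV : V.1.toScheme := (⟨z, hzV⟩ : V.1)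
      exact ⟨ip V zV, (congr($(hi V) zV)).symm⟩
  let eV : ∀ V : J, (i ⁻¹ᵁ (κ V).opensRange).toScheme ≅ V.1.toScheme := fun V => Z.isoOfEq (hpre V)
  have hw : ∀ V : J, (eV V).hom ≫ ip V = (i ∣_ (κ V).opensRange) ≫ (κ V).isoOpensRange.inv := fun V => by
    rw [← cancel_mono (κ V), Category.assoc, Category.assoc, Scheme.Hom.isoOpensRange_inv_comp,
      morphismRestrict_ι, ← hi V, ← Category.assoc, Scheme.isoOfEq_hom_ι]
  have hR : iSup (fun V : J => (κ V).opensRange) = ⊤ := top_le_iff.1 fun x _ => by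
    obtain ⟨V, y, rfl⟩ := Scheme.IsLocallyDirected.ι_jointly_surjective F x
    exact TopologicalSpace.Opens.mem_iSup.2 ⟨V, y, rfl⟩
  have hfot : MoreMor.IsFirstOrderThickening i := by
    refine isFirstOrderThickening_of_cover i _ hR fun V => ?_
    refine isFirstOrderThickening_of_arrowIso (eV V).symm (κ V).isoOpensRange ?_ (hup V).1
    rw [Iso.symm_hom, Iso.inv_comp_eq, ← Category.assoc, ← Iso.comp_inv_eq, hw]
  refine ⟨colimit F, i, h', isUniv_of_cover hfot ?_ fun z => ?_⟩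
  · refine 𝒰.hom_ext _ _ fun (V : J) => ?_
    change V.1.ι ≫ i ≫ h' = V.1.ι ≫ h
    rw [reassoc_of% (hi V)]
    exact (congrArg (ip V ≫ ·) (hh' V)).trans (hup V).2.1
  obtain ⟨V, hzV, -⟩ := hbasis z ⊤ trivial
  refine ⟨(κ V).opensRange, ?_, ?_⟩
  · have : z ∈ i ⁻¹ᵁ (κ V).opensRange := by rw [hpre]; exact hzV
    exact this
  refine isUniv_congr ?_ ?_ (isUniv_of_iso (eV V) (κ V).isoOpensRange.symm (i ∣_ (κ V).opensRange) (hw V) (hup V))
  · rw [← Category.assoc, Scheme.isoOfEq_hom_ι]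
  · rw [Iso.symm_hom, ← hh' V, Scheme.Hom.isoOpensRange_inv_comp_assoc]

end Groth.Agent.UnivThick
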