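import Groth.Agent.UnivThick.Split
import Groth.Agent.UnivThick.Exists
import Groth.Agent.RegConormal.Free
import Groth.Agent.RegImmLib.Basic
import Groth.Agent.KRegLib.Kinds
import Groth.Agent.KFlatLib.Perfect.LocFree
import Groth.Agent.ConsPropLib.FibreLocFree
import Groth.Agent.H23.PullPush
import Groth.Agent.Ribbon29.Sq
import Groth.Agent.S5626
import Groth.Agent.Synt29.OmegaExists
import Groth.Agent.GrpOmega.Section
import Groth.Agent.S1488

/-!
The conormal sheaf of the universal thickening of a formally unramified local complete intersection.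
-/

set_option autoImplicit false
set_option backward.isDefEq.respectTransparency false
set_option backward.isDefEq.respectTransparency.types false
set_option maxRecDepth 4000

universe u

open CategoryTheory CategoryTheory.Limits AlgebraicGeometry TopologicalSpace Opposite

namespace Groth.Agent.UnivThick

open Synt29.OmegaStalk Synt29.ConormalStalk Synt29.ConormalExact Synt29.ConormalSeq Synt29.ConormalBC
open Groth.Agent.KFlatLib

/-- The universal thickening of a surjection is the quotient by the square of the kernel. -/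
theorem surjective_and_ker_le {A B B' : Type u} [CommRing A] [CommRing B] [CommRing B'] [Algebra A B] [Algebra A B']
    (π : B' →ₐ[A] B) (hu : OmegaSh.IsUnivThickeningRing A B B' π) (hs : Function.Surjective (algebraMap A B)) :
    Function.Surjective (algebraMap A B') ∧
      RingHom.ker (algebraMap A B') ≤ RingHom.ker (algebraMap A B) ^ 2 := by
  let K := RingHom.ker (algebraMap A B)
  have hK2 : ∀ a ∈ K ^ 2, algebraMap A B' a = 0 := by
    intro a ha
    have h1 : algebraMap A B' a ∈ (K.map (algebraMap A B')) ^ 2 := by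
      rw [← Ideal.map_pow]
      exact Ideal.mem_map_of_mem _ ha
    have h2 : K.map (algebraMap A B') ≤ RingHom.ker π.toRingHom := Ideal.map_le_iff_le_comap.2 fun b hb => by
      show π (algebraMap A B' b) = 0
      rw [π.commutes]
      exact hb
    exact Ideal.mem_bot.1 ((Ideal.pow_right_mono h2 2).trans hu.2.1.le h1)
  let q : A ⧸ K ^ 2 →ₐ[A] B' := Ideal.Quotient.liftₐ (K ^ 2) (Algebra.ofId A B') hK2
  let p : A ⧸ K ^ 2 →ₐ[A] B := Ideal.Quotient.liftₐ (K ^ 2) (Algebra.ofId A B)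
    fun a ha => Ideal.pow_le_self two_ne_zero ha
  have hp : Function.Surjective p := fun b => by
    obtain ⟨a, rfl⟩ := hs b
    exact ⟨Ideal.Quotient.mk _ a, rfl⟩
  have hI : RingHom.ker p ^ 2 = ⊥ := by
    refine le_bot_iff.1 ((sq (RingHom.ker p)).le.trans (Ideal.mul_le.2 fun u hu' v hv' => ?_))
    obtain ⟨u, rfl⟩ := Ideal.Quotient.mk_surjective u
    obtain ⟨v, rfl⟩ := Ideal.Quotient.mk_surjective v
    rw [Ideal.mem_bot, ← map_mul, Ideal.Quotient.eq_zero_iff_mem, pow_two]
    exact Ideal.mul_mem_mul hu' hv'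
  obtain ⟨l, hl, -⟩ := hu.2.2 _ (RingHom.ker p) hI (Ideal.quotientKerAlgEquivOfSurjective hp).symm.toAlgHom
  have hl' : ∀ b, p (l b) = π b := fun b =>
    (congrArg (Ideal.quotientKerAlgEquivOfSurjective hp) (DFunLike.congr_fun hl b)).trans
      ((Ideal.quotientKerAlgEquivOfSurjective hp).apply_symm_apply (π b))
  have hpq : π.comp q = p := by
    refine AlgHom.ext fun z => ?_
    obtain ⟨a, rfl⟩ := Ideal.Quotient.mk_surjective z
    exact π.commutes a
  obtain ⟨c, -, hc⟩ := hu.2.2 B' (RingHom.ker π.toRingHom) hu.2.1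
    (Ideal.quotientKerAlgEquivOfSurjective (f := π) hu.1).symm.toAlgHom
  have hh : ∀ ψ : B' →ₐ[A] B', (∀ b, π (ψ b) = π b) → ψ = c := fun ψ hψ => hc ψ (AlgHom.ext fun b =>
    (Ideal.quotientKerAlgEquivOfSurjective (f := π) hu.1).injective
      ((hψ b).trans ((Ideal.quotientKerAlgEquivOfSurjective (f := π) hu.1).apply_symm_apply (π b)).symm))
  refine ⟨fun b => ?_, fun a ha => ?_⟩
  · have h1 : q.comp l = AlgHom.id A B' := by
      rw [hh (q.comp l) fun b => (DFunLike.congr_fun hpq (l b)).trans (hl' b), hh (AlgHom.id A B') fun _ => rfl]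
    obtain ⟨a, ha⟩ := Ideal.Quotient.mk_surjective (l b)
    refine ⟨a, ?_⟩
    have h2 := DFunLike.congr_fun h1 b
    change q (l b) = b at h2
    rw [← ha] at h2
    exact h2
  · refine Ideal.Quotient.eq_zero_iff_mem.1 ?_
    show algebraMap A (A ⧸ K ^ 2) a = 0
    rw [← l.commutes, RingHom.mem_ker.1 ha, map_zero]

/-- The thickening of an immersion has the same conormal sheaf. -/
theorem isIso_conormal_thickening {U P N : Scheme.{u}} (g : U ⟶ P) [IsImmersion g] [QuasiCompact g] (j : U ⟶ N)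
    (e : N ⟶ P) (hu : OmegaSh.IsUnivThickening g j e)
    (θ : (Scheme.Modules.pullback (𝟙 U)).obj (Omega.conormal g) ⟶ Omega.conormal j)
    (hθ : OmegaSh.IsConormalMap j g e (𝟙 U) θ) : IsIso θ := by
  haveI := hu.1.1.1
  have hw : 𝟙 U ≫ g = j ≫ e := hθ.1
  refine isIso_of_stalk _ fun x => ?_
  rw [ConcreteCategory.isIso_iff_bijective]
  have pe : e (j x) = g x := congr($(hu.2.1) x)
  letI := (tr e (j x) (g x) pe).hom.toAlgebra
  letI := (tr e (j x) (g x) pe ≫ j.stalkMap x).hom.toAlgebra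
  have hg : ∀ r, j.stalkMap x (tr e (j x) (g x) pe r) = g.stalkMap x r := fun r => by
    rw [← tr_rfl j x, tr_comp, tr_congr hu.2.1, tr_rfl]
  have hK := surjective_and_ker_le _ (isUnivRing_tr hu x (g x) pe) (fun b => by
    obtain ⟨a, ha⟩ := g.stalkMap_surjective x b
    exact ⟨a, (hg a).trans ha⟩)
  let Pj := (stalkPullbackIso j x).app (I j)
  let Pg := (stalkPullbackIso g x).app (I g)
  let gen : St (I g) (g x) → St ((Scheme.Modules.pullback (𝟙 U)).obj (Omega.conormal g)) x :=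
    fun m => up (Omega.conormal g) x (Pg.inv (unit1 g x m))
  have hgen : Function.Surjective gen := fun w => by
    obtain ⟨t, rfl⟩ := up_surjective _ x w
    obtain ⟨m, hm⟩ := unit1_surjective g x (Pg.hom t)
    refine ⟨m, ?_⟩
    show up _ x (Pg.inv _) = _
    rw [hm]
    exact congrArg (fun z => up _ x z) (Iso.hom_inv_id_apply Pg t)
  have hval : ∀ (m : St (I g) (g x)) a, Rep g (g x) m a →
      ∃ n, Rep j (j x) n (tr e (j x) (g x) pe a) ∧
        Pj.hom ((DerSch.stalkFunctor U x).map θ (gen m)) = unit1 j x n := fun m a ha =>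
    map_el j g e (𝟙 U) hw x θ hθ m a ha
  constructor
  · refine (injective_iff_map_eq_zero _).2 fun w hw0 => ?_
    obtain ⟨m, rfl⟩ := hgen w
    obtain ⟨a, ha⟩ := rep_exists g (g x) m
    obtain ⟨n, hn, he⟩ := hval m a ha
    have h0 : unit1 j x n = 0 := he.symm.trans ((congrArg Pj.hom hw0).trans (map_zero _))
    have h3 := mem_sq_of_unit1_eq_zero j (j.stalkMap_surjective x) hn h0
    have h4 : tr e (j x) (g x) pe a = 0 := Ideal.mem_bot.1 ((isUnivRing_tr hu x (g x) pe).2.1.le h3)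
    have h5 : a ∈ RingHom.ker (g.stalkMap x).hom ^ 2 := by
      have := hK.2 (RingHom.mem_ker.2 h4)
      have e1 : RingHom.ker (algebraMap (P.presheaf.stalk (g x)) (U.presheaf.stalk x)) =
          RingHom.ker (g.stalkMap x).hom := congrArg RingHom.ker (RingHom.ext hg)
      exact e1 ▸ this
    show up _ x (Pg.inv _) = 0
    rw [unit1_eq_zero_of_mem_sq g ha h5, map_zero Pg.inv.hom]
    exact (congrArg _ (map_zero _)).trans (map_zero _)
  · intro z
    obtain ⟨W, hx, kk, rfl⟩ := exists_conormalSect j x z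
    have hrep : Rep j (j x) (gm (I j) hx kk)
        (N.presheaf.germ W (j x) hx (OmegaSh.idealSect j.ker W kk)) := ⟨W, hx, kk, rfl, rfl⟩
    obtain ⟨a, ha⟩ := hK.1 (N.presheaf.germ W (j x) hx (OmegaSh.idealSect j.ker W kk))
    have ha0 : g.stalkMap x a = 0 := by
      rw [← hg]
      exact (congrArg (j.stalkMap x) ha).trans (rep_mem j hrep)
    obtain ⟨m, hm⟩ := exists_rep g ha0
    obtain ⟨n, hn, he⟩ := hval m a hm
    rw [show tr e (j x) (g x) pe a = _ from ha] at hn
    rw [rep_inj j hn hrep] at he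
    exact ⟨gen m, (ConcreteCategory.bijective_of_isIso Pj.hom).1
      (he.trans (stalkPullbackIso_gm j (I j) x hx kk).symm)⟩

/-- A retract of a finite locally free module is finite locally free. -/
theorem isFinLocFree_of_retract {X : Scheme.{u}} {M N : X.Modules} (f : M ⟶ N) (r : N ⟶ M) (h : f ≫ r = 𝟙 M)
    (hN : FlatMod.IsFinLocFree N) : FlatMod.IsFinLocFree M := by
  choose W n hxW e using hN
  refine ConsPropLib.isFinLocFree_of_cover (fun x => (W x).ι) (fun x => ⟨x, ⟨⟨x, hxW x⟩, rfl⟩⟩) fun x => ?_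
  let F := Scheme.Modules.restrictFunctor (W x).ι
  let S : ShortComplex (W x).toScheme.Modules := ShortComplex.mk (F.map f) (cokernel.π (F.map f)) (cokernel.condition _)
  have hr : S.f ≫ F.map r = 𝟙 S.X₁ := by
    show F.map f ≫ F.map r = 𝟙 (F.obj M)
    rw [← F.map_comp, h, F.map_id]
  have sp := ShortComplex.Splitting.ofExactOfRetraction S (S.exact_of_g_is_cokernel (cokernelIsCokernel _)) (F.map r) hr
    (inferInstanceAs (Epi (cokernel.π (F.map f))))
  exact S5626.result S.X₁ S.X₃ (n x) (sp.isoBinaryBiproduct.symm ≪≫ (e x).some)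

theorem isRegularImmersion_h1_of_koszul {Z P : Scheme.{u}} {i : Z ⟶ P}
    (h : RegImm.IsRegularImmersion .koszul i) : RegImm.IsRegularImmersion .h1 i :=
  ⟨h.1, fun z => by
    obtain ⟨U, hU, hc, rs, hrs, hk⟩ := h.2 z
    exact ⟨U, hU, hc, rs, KRegLib.h1_of_koszul rs hrs, hk⟩⟩

theorem isFinLocFree_restrict {X : Scheme.{u}} {U : Scheme.{u}} (j : U ⟶ X) [IsOpenImmersion j] {M : X.Modules}
    (hM : FlatMod.IsFinLocFree M) : FlatMod.IsFinLocFree (M.restrict j) :=
  H23.PullPush.isFinLocFree_of_iso ((Scheme.Modules.restrictFunctorIsoPullback j).symm.app M)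
    (KFlatLib.isFinLocFree_pullback j hM)

theorem isFinLocFree_of_regular {U P Y N : Scheme.{u}} (g : U ⟶ P) [IsClosedImmersion g]
    (hg : RegImm.IsRegularImmersion .koszul g) (π : P ⟶ Y) [Smooth π] [FormallyUnramified (g ≫ π)]
    {V : Scheme.{u}} (iU : U ⟶ V) (b : V ⟶ Y) (huV : OmegaSh.IsUnivThickening (g ≫ π) iU b)
    (hN : FlatMod.IsFinLocFree (Omega.conormal g))
    (j : U ⟶ N) (e : N ⟶ P) (huN : OmegaSh.IsUnivThickening g j e) :
    FlatMod.IsFinLocFree (Omega.conormal iU) := by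
  haveI := huV.1.1.1
  haveI := huN.1.1.1
  obtain ⟨θ, hθ, -⟩ := S9371.result j g e (𝟙 U) ((Category.id_comp g).trans huN.2.1.symm)
  haveI := isIso_conormal_thickening g j e huN θ hθ
  have hj : FlatMod.IsFinLocFree (Omega.conormal j) :=
    H23.PullPush.isFinLocFree_of_iso (asIso θ) (KFlatLib.isFinLocFree_pullback (𝟙 U) hN)
  obtain ⟨k, ⟨hk₁, hk₂⟩, -⟩ := huV.2.2 _ _ j (e ≫ π) (𝟙 U) huN.1
    (by rw [← Category.assoc, huN.2.1, Category.id_comp])
  rw [Category.id_comp] at hk₁
  obtain ⟨ψ, hψ, -⟩ := S9371.result j iU k (𝟙 U) ((Category.id_comp iU).trans hk₁.symm)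
  obtain ⟨Ω, d, hd⟩ : ∃ (Ω : N.Modules) (d : OmegaSh.Der k Ω), OmegaSh.IsUniversal d :=
    Synt29.OmegaExists.exists_isUniversal k
  obtain ⟨φ, hφ⟩ := GrpOmega.exists_conormalDiff k j Ω d
  obtain ⟨-, -, hsplit⟩ := shortExact_split g π ((S1488.result π).1 inferInstance).2 j e huN iU b huV k hk₁ hk₂
    Ω d hd ψ hψ φ hφ
  choose W r hzW hr using hsplit
  refine H23.PullPush.isFinLocFree_of_iso ((Scheme.Modules.pullbackId U).app (Omega.conormal iU))
    (ConsPropLib.isFinLocFree_of_cover (fun z => (W z).ι) (fun z => ⟨z, ⟨⟨z, hzW z⟩, rfl⟩⟩) fun z => ?_)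
  exact isFinLocFree_of_retract _ (r z) (hr z) (isFinLocFree_restrict _ hj)

theorem iso_image_ι {X : Scheme.{u}} {U₀ U : X.Opens} {O : U₀.toScheme.Opens} (h : U = U₀.ι ''ᵁ O) :
    (X.isoOfEq h).hom ≫ (U₀.ι.isoImage O).inv ≫ O.ι ≫ U₀.ι = U.ι := by
  subst h
  simp

theorem isFinLocFree_conormal {X Y X' : Scheme.{u}} (f : X ⟶ Y) (hf : ∀ x : X, Synt.IsKoszulAt f x)
    [FormallyUnramified f] (i : X ⟶ X') (h' : X' ⟶ Y) (hu : OmegaSh.IsUnivThickening f i h') :
    FlatMod.IsFinLocFree (Omega.conormal i) := by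
  haveI := hu.1.1.1
  have key : ∀ x : X, ∃ U : X.Opens, x ∈ U ∧ FlatMod.IsFinLocFree ((Omega.conormal i).restrict U.ι) := by
    intro x
    obtain ⟨U₀, P, iP, π, hxU₀, -, hreg, hπ, hw⟩ := hf x
    obtain ⟨P₁, hxP₁, hcl, -⟩ := hreg.2 ⟨x, hxU₀⟩
    let O : U₀.toScheme.Opens := iP ⁻¹ᵁ P₁.1
    obtain ⟨V, hV⟩ := Ribbon29.exists_pre i (U₀.ι ''ᵁ O)
    let U : X.Opens := i ⁻¹ᵁ V
    let eO : U.toScheme ≅ O.toScheme := X.isoOfEq hV ≪≫ (U₀.ι.isoImage O).symm
    let g : U.toScheme ⟶ P₁.1.toScheme := eO.hom ≫ (iP ∣_ P₁.1)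
    haveI : IsClosedImmersion g := by
      haveI := hcl
      infer_instance
    haveI := hreg.1
    have hgr : RegImm.IsRegularImmersion .koszul g := by
      refine RegImmLib.isRegularImmersion_baseChange (g := P₁.1.ι) (g' := eO.hom ≫ O.ι) ?_ hreg
      exact IsPullback.paste_horiz (IsPullback.of_horiz_isIso ⟨(Category.comp_id g).symm⟩)
        (isPullback_morphismRestrict iP P₁.1).flip
    have hgw : g ≫ P₁.1.ι ≫ π = U.ι ≫ f := by
      rw [Category.assoc, morphismRestrict_ι_assoc, hw]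
      have h1 := iso_image_ι hV
      rw [← reassoc_of% h1]
      simp only [eO, Iso.trans_hom, Iso.symm_hom, Category.assoc]
      rfl
    haveI : Smooth π := hπ
    haveI : FormallyUnramified (g ≫ P₁.1.ι ≫ π) := hgw.symm ▸
      MorphismProperty.comp_mem @FormallyUnramified U.ι f (FormallyUnramified.of_comp U.ι (𝟙 X)) inferInstance
    have huV := isUniv_congr hgw.symm rfl (isUniv_open hu V)
    obtain ⟨N, j, e, huN⟩ := exists_univThickening g
    have hC := RegConormal.isFinLocFree_conormal_h1 g (isRegularImmersion_h1_of_koszul hgr)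
    have hU := isFinLocFree_of_regular g hgr (P₁.1.ι ≫ π) (i ∣_ V) (V.ι ≫ h') huV hC j e huN
    obtain ⟨θ, hθ, -⟩ := S9371.result (i ∣_ V) i V.ι U.ι (morphismRestrict_ι i V).symm
    haveI := Synt29.ConormalBC.epi (i ∣_ V) i V.ι U.ι θ hθ (isPullback_morphismRestrict i V)
    haveI := Synt29.ConormalBC.mono (i ∣_ V) i V.ι U.ι θ hθ (isPullback_morphismRestrict i V)
    haveI := isIso_of_mono_of_epi θ
    refine ⟨U, ?_, H23.PullPush.isFinLocFree_of_iso
      (((Scheme.Modules.restrictFunctorIsoPullback U.ι).app (Omega.conormal i) ≪≫ asIso θ).symm) hU⟩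
    show x ∈ i ⁻¹ᵁ V
    rw [hV]
    exact ⟨⟨x, hxU₀⟩, hxP₁, rfl⟩
  choose U hxU hU using key
  exact ConsPropLib.isFinLocFree_of_cover (fun x => (U x).ι) (fun x => ⟨x, ⟨⟨x, hxU x⟩, rfl⟩⟩) hU

end Groth.Agent.UnivThick
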