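import Groth.Prelude.Def_Omega3
import Mathlib.RingTheory.Unramified.Basic
import Mathlib.RingTheory.Kaehler.Basic
import Mathlib.LinearAlgebra.TensorProduct.Quotient

/-! Universal first order thickenings of formally unramified algebras. -/

universe u

open TensorProduct

namespace Groth.Agent.UnivThick

theorem mem_smul_top_of_one_tmul_eq_zero {P S : Type u} [CommRing P] [CommRing S] [Algebra P S]
    (hs : Function.Surjective (algebraMap P S)) {M : Type u} [AddCommGroup M] [Module P M] (x : M)
    (h : (1 : S) ⊗ₜ[P] x = 0) : x ∈ RingHom.ker (algebraMap P S) • (⊤ : Submodule P M) := by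
  let e := (Ideal.quotientKerAlgEquivOfSurjective (f := Algebra.ofId P S) hs).toLinearEquiv
  have h1 := congrArg (TensorProduct.map e.symm.toLinearMap (LinearMap.id : M →ₗ[P] M)) h
  rw [map_zero, TensorProduct.map_tmul, LinearMap.id_apply] at h1
  have h2 : e.symm (1 : S) = Ideal.Quotient.mk (RingHom.ker (Algebra.ofId P S)) 1 :=
    (map_one (Ideal.quotientKerAlgEquivOfSurjective (f := Algebra.ofId P S) hs).symm).trans (map_one _).symm
  rw [LinearEquiv.coe_coe, h2] at h1
  have h3 := congrArg (TensorProduct.quotTensorEquivQuotSMul M (RingHom.ker (Algebra.ofId P S))) h1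
  rw [map_zero, TensorProduct.quotTensorEquivQuotSMul_mk_tmul, one_smul, Submodule.Quotient.mk_eq_zero] at h3
  exact h3

/-- Two lifts differ equally on `x` and on `j` when `Dx - Dj` lies in `J Ω`. -/
theorem sub_eq_sub {R P A : Type u} [CommRing R] [CommRing P] [CommRing A] [Algebra R P] [Algebra R A]
    (φ ψ : P →ₐ[R] A) (I : Ideal A) (hI : I ^ 2 = ⊥) (hd : ∀ p, φ p - ψ p ∈ I) (J : Ideal P)
    (hJ : ∀ p ∈ J, ψ p ∈ I) (x j : P)
    (h : KaehlerDifferential.D R P x - KaehlerDifferential.D R P j ∈ J • (⊤ : Submodule P _)) :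
    φ x - ψ x = φ j - ψ j := by
  let : Algebra P A := ψ.toRingHom.toAlgebra
  have : IsScalarTower R P A := IsScalarTower.of_algebraMap_eq fun r => (ψ.commutes r).symm
  have hmul : ∀ a b, a ∈ I → b ∈ I → a * b = 0 := fun a b ha hb => by
    have := Ideal.mul_mem_mul ha hb
    rwa [← pow_two, hI, Ideal.mem_bot] at this
  let D : Derivation R P A :=
    { toFun := fun p => φ p - ψ p
      map_add' := fun a b => by rw [map_add, map_add]; ring
      map_smul' := fun r a => by rw [map_smul, map_smul, RingHom.id_apply, smul_sub]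
      map_one_eq_zero' := by
        change φ 1 - ψ 1 = 0
        rw [map_one, map_one, sub_self]
      leibniz' := fun a b => by
        change φ (a * b) - ψ (a * b) = ψ a * (φ b - ψ b) + ψ b * (φ a - ψ a)
        have := hmul _ _ (hd a) (hd b)
        rw [map_mul, map_mul]
        linear_combination this }
  let ℓ := D.liftKaehlerDifferential
  have hℓ : ∀ m, ℓ m ∈ I := by
    intro m
    have hm : m ∈ Submodule.span P (Set.range (KaehlerDifferential.D R P)) := by
      rw [KaehlerDifferential.span_range_derivation]; trivial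
    induction hm using Submodule.span_induction with
    | mem y hy =>
      obtain ⟨p, rfl⟩ := hy
      rw [Derivation.liftKaehlerDifferential_comp_D]
      exact hd p
    | zero => rw [map_zero]; exact zero_mem _
    | add a b _ _ ha hb => rw [map_add]; exact add_mem ha hb
    | smul p a _ ha => rw [map_smul, Algebra.smul_def]; exact Ideal.mul_mem_left _ _ ha
  have h0 : ∀ m ∈ J • (⊤ : Submodule P (KaehlerDifferential R P)), ℓ m = 0 := by
    intro m hm
    refine Submodule.smul_induction_on hm (fun p hp y _ => ?_) fun a b ha hb => by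
      rw [map_add, ha, hb, add_zero]
    rw [map_smul, Algebra.smul_def]
    exact hmul _ _ (hJ p hp) (hℓ y)
  have := h0 _ h
  rw [map_sub, Derivation.liftKaehlerDifferential_comp_D, Derivation.liftKaehlerDifferential_comp_D,
    sub_eq_zero] at this
  exact this

theorem exists_generators_lift (R S : Type u) [CommRing R] [CommRing S] [Algebra R S]
    [Algebra.FormallyUnramified R S] (s : S) :
    ∃ j : MvPolynomial S R, MvPolynomial.aeval (id : S → S) j = 0 ∧
      KaehlerDifferential.D R (MvPolynomial S R) (MvPolynomial.X s) -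
        KaehlerDifferential.D R (MvPolynomial S R) j ∈
        RingHom.ker (MvPolynomial.aeval (R := R) (id : S → S)) • (⊤ : Submodule (MvPolynomial S R) _) := by
  let P := MvPolynomial S R
  let : Algebra P S := (MvPolynomial.aeval (R := R) (id : S → S)).toRingHom.toAlgebra
  have : IsScalarTower R P S :=
    IsScalarTower.of_algebraMap_eq fun r => ((MvPolynomial.aeval (id : S → S)).commutes r).symm
  have hs : Function.Surjective (algebraMap P S) := fun x => ⟨MvPolynomial.X x, MvPolynomial.aeval_X _ x⟩
  obtain ⟨y, hy⟩ := (KaehlerDifferential.exact_kerCotangentToTensor_mapBaseChange R P S hs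
    ((1 : S) ⊗ₜ[P] KaehlerDifferential.D R P (MvPolynomial.X s))).1 (Subsingleton.elim _ _)
  obtain ⟨⟨j, hj⟩, rfl⟩ := Ideal.toCotangent_surjective _ y
  refine ⟨j, hj, mem_smul_top_of_one_tmul_eq_zero hs _ ?_⟩
  rw [KaehlerDifferential.kerCotangentToTensor_toCotangent] at hy
  rw [TensorProduct.tmul_sub, hy, sub_self]

theorem exists_univThickeningRing (R S : Type u) [CommRing R] [CommRing S] [Algebra R S]
    [Algebra.FormallyUnramified R S] :
    ∃ (S' : Type u) (_ : CommRing S') (_ : Algebra R S') (π : S' →ₐ[R] S),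
      OmegaSh.IsUnivThickeningRing R S S' π := by
  choose j hj hD using fun s => exists_generators_lift R S s
  let ev : MvPolynomial S R →ₐ[R] S := MvPolynomial.aeval (id : S → S)
  let J := RingHom.ker ev
  let J' : Ideal (MvPolynomial S R) := J * J ⊔ Ideal.span (Set.range j)
  have hJ' : J' ≤ J := sup_le Ideal.mul_le_right (Ideal.span_le.2 (by rintro _ ⟨s, rfl⟩; exact hj s))
  let π : (MvPolynomial S R ⧸ J') →ₐ[R] S := Ideal.Quotient.liftₐ J' ev fun a ha => hJ' ha
  have hπ : ∀ p, π (Ideal.Quotient.mk J' p) = ev p := fun _ => rfl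
  refine ⟨MvPolynomial S R ⧸ J', inferInstance, inferInstance, π,
    fun x => ⟨Ideal.Quotient.mk J' (MvPolynomial.X x), MvPolynomial.aeval_X _ x⟩, ?_, ?_⟩
  · rw [eq_bot_iff, pow_two, Ideal.mul_le]
    intro a ha b hb
    obtain ⟨a, rfl⟩ := Ideal.Quotient.mk_surjective a
    obtain ⟨b, rfl⟩ := Ideal.Quotient.mk_surjective b
    rw [Ideal.mem_bot, ← map_mul, Ideal.Quotient.eq_zero_iff_mem]
    exact Ideal.mem_sup_left (Ideal.mul_mem_mul ha hb)
  · intro A _ _ I hI a
    obtain ⟨v, hv⟩ : ∃ v : S → A, ∀ s, Ideal.Quotient.mk I (v s) = a s :=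
      ⟨fun s => (Ideal.Quotient.mk_surjective (a s)).choose, fun s => (Ideal.Quotient.mk_surjective (a s)).choose_spec⟩
    have hlift : ∀ w : S → A, (∀ s, Ideal.Quotient.mk I (w s) = a s) →
        ∀ p, Ideal.Quotient.mk I (MvPolynomial.aeval w p) = a (ev p) := by
      intro w hw
      exact DFunLike.congr_fun (MvPolynomial.algHom_ext
        (f := (Ideal.Quotient.mkₐ R I).comp (MvPolynomial.aeval w)) (g := a.comp ev) fun s => by
          simp [ev, hw])
    have hJI : ∀ w : S → A, (∀ s, Ideal.Quotient.mk I (w s) = a s) → ∀ p ∈ J, MvPolynomial.aeval w p ∈ I :=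
      fun w hw p hp => by
        rw [← Ideal.Quotient.eq_zero_iff_mem, hlift w hw, RingHom.mem_ker.1 hp, map_zero]
    have key : ∀ φ ψ : MvPolynomial S R →ₐ[R] A, (∀ p, Ideal.Quotient.mk I (φ p) = a (ev p)) →
        (∀ p, Ideal.Quotient.mk I (ψ p) = a (ev p)) → ∀ s,
        φ (MvPolynomial.X s) - ψ (MvPolynomial.X s) = φ (j s) - ψ (j s) :=
      fun φ ψ hφ hψ s => sub_eq_sub φ ψ I hI (fun p => by
        rw [← Ideal.Quotient.eq_zero_iff_mem, map_sub, hφ, hψ, sub_self]) J (fun p hp => by
        rw [← Ideal.Quotient.eq_zero_iff_mem, hψ, RingHom.mem_ker.1 hp, map_zero]) _ _ (hD s)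
    let w : S → A := fun s => v s - MvPolynomial.aeval v (j s)
    have hw : ∀ s, Ideal.Quotient.mk I (w s) = a s := fun s => by
      rw [map_sub, hv, Ideal.Quotient.eq_zero_iff_mem.2 (hJI v hv _ (hj s)), sub_zero]
    have hwj : ∀ s, MvPolynomial.aeval w (j s) = 0 := fun s => by
      have := key _ _ (hlift w hw) (hlift v hv) s
      rw [MvPolynomial.aeval_X, MvPolynomial.aeval_X] at this
      change v s - _ - v s = _ at this
      linear_combination -this
    have hker : J' ≤ RingHom.ker (MvPolynomial.aeval (R := R) w) := sup_le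
      (Ideal.mul_le.2 fun p hp q hq => by
        have := Ideal.mul_mem_mul (hJI w hw p hp) (hJI w hw q hq)
        rw [← pow_two, hI, Ideal.mem_bot] at this
        rw [RingHom.mem_ker, map_mul, this])
      (Ideal.span_le.2 (by rintro _ ⟨s, rfl⟩; exact hwj s))
    refine ⟨Ideal.Quotient.liftₐ J' (MvPolynomial.aeval w) fun p hp => hker hp, ?_, ?_⟩
    · refine AlgHom.ext fun x => ?_
      obtain ⟨p, rfl⟩ := Ideal.Quotient.mk_surjective x
      exact hlift w hw p
    · intro a' ha'
      have hφ : ∀ p, Ideal.Quotient.mk I (a'.comp (Ideal.Quotient.mkₐ R J') p) = a (ev p) :=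
        fun p => DFunLike.congr_fun ha' (Ideal.Quotient.mk J' p)
      have h2 : a'.comp (Ideal.Quotient.mkₐ R J') = MvPolynomial.aeval w := by
        refine MvPolynomial.algHom_ext fun s => ?_
        have hz : a'.comp (Ideal.Quotient.mkₐ R J') (j s) = 0 := by
          rw [AlgHom.comp_apply, Ideal.Quotient.mkₐ_eq_mk,
            Ideal.Quotient.eq_zero_iff_mem.2 (Ideal.mem_sup_right (Ideal.subset_span (Set.mem_range_self s))), map_zero]
        have := key _ _ hφ (hlift w hw) s
        rwa [hz, hwj, sub_self, sub_eq_zero] at this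
      refine AlgHom.ext fun x => ?_
      obtain ⟨p, rfl⟩ := Ideal.Quotient.mk_surjective x
      exact DFunLike.congr_fun h2 p

end Groth.Agent.UnivThick
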