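import Groth.Prelude.Def_Omega3
import Mathlib.RingTheory.Unramified.Basic
import Mathlib.RingTheory.Kaehler.Basic
import Mathlib.RingTheory.Kaehler.TensorProduct
import Mathlib.Algebra.TrivSqZeroExt.Basic

/-! Differentials of universal first order thickenings. -/

universe u

open TensorProduct TrivSqZeroExt

noncomputable section

namespace Groth.Agent.UnivThick

/-- The right action of a commutative ring on a module. -/
@[implicit_reducible] def opModule (P : Type u) [CommRing P] (M : Type u) [AddCommGroup M] [Module P M] :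
    Module Pᵐᵒᵖ M :=
  Module.compHom M ((RingEquiv.toOpposite P).symm.toRingHom)

attribute [local instance 10] opModule

theorem opCentral (P : Type u) [CommRing P] (M : Type u) [AddCommGroup M] [Module P M] :
    IsCentralScalar P M :=
  ⟨fun _ _ => rfl⟩

attribute [local instance 10] opCentral

variable {A B B' : Type u} [CommRing A] [CommRing B] [CommRing B'] [Algebra A B] [Algebra A B']
  (π : B' →ₐ[A] B)

theorem lifts_congr_mod_mul (hu : OmegaSh.IsUnivThickeningRing A B B' π) {T : Type u} [CommRing T]
    [Algebra A T] (J : Ideal T) (hJ : J ^ 2 = ⊥) (f g : B' →ₐ[A] T) (h : ∀ b, f b - g b ∈ J) (b : B') :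
    f b - g b ∈ J * (RingHom.ker π).map f := by
  let L := J * (RingHom.ker π).map f
  let K : Ideal (T ⧸ L) := (J ⊔ (RingHom.ker π).map f).map (Ideal.Quotient.mk L)
  have hK : K ^ 2 = ⊥ := by
    rw [pow_two, ← Ideal.map_mul, Ideal.map_eq_bot_iff_le_ker, Ideal.mk_ker]
    refine Ideal.mul_le.2 fun x hx y hy => ?_
    obtain ⟨x₁, hx₁, x₂, hx₂, rfl⟩ := Submodule.mem_sup.1 hx
    obtain ⟨y₁, hy₁, y₂, hy₂, rfl⟩ := Submodule.mem_sup.1 hy
    have h11 : x₁ * y₁ = 0 := by
      have := Ideal.mul_mem_mul hx₁ hy₁
      rwa [← pow_two, hJ, Ideal.mem_bot] at this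
    have h22 : x₂ * y₂ = 0 := by
      have := Ideal.mul_mem_mul hx₂ hy₂
      rwa [← Ideal.map_mul, ← pow_two, show RingHom.ker π ^ 2 = ⊥ from hu.2.1, Ideal.map_bot,
        Ideal.mem_bot] at this
    rw [show (x₁ + x₂) * (y₁ + y₂) = x₁ * y₂ + y₁ * x₂ by linear_combination h11 + h22]
    exact add_mem (Ideal.mul_mem_mul hx₁ hy₂) (Ideal.mul_mem_mul hy₁ hx₂)
  let q := Ideal.Quotient.mkₐ A L
  let F : B' →ₐ[A] (T ⧸ L) ⧸ K := (Ideal.Quotient.mkₐ A K).comp (q.comp f)
  have hF : RingHom.ker π ≤ RingHom.ker F := fun i hi => RingHom.mem_ker.2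
    (Ideal.Quotient.eq_zero_iff_mem.2 (Ideal.mem_map_of_mem _ (Ideal.mem_sup_right (Ideal.mem_map_of_mem f hi))))
  let a : B →ₐ[A] (T ⧸ L) ⧸ K := AlgHom.liftOfSurjective π hu.1 F hF
  have ha : a.comp π = F := AlgHom.ext fun i => AlgHom.liftOfSurjective_apply π hu.1 F hF i
  obtain ⟨a', -, huniq⟩ := hu.2.2 (T ⧸ L) K hK a
  have e : q.comp f = q.comp g := by
    rw [huniq (q.comp f) ha.symm, huniq (q.comp g) (by
      rw [ha]
      refine AlgHom.ext fun i => ?_
      change Ideal.Quotient.mk K (Ideal.Quotient.mk L (g i)) = Ideal.Quotient.mk K (Ideal.Quotient.mk L (f i))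
      rw [eq_comm, Ideal.Quotient.eq, ← map_sub]
      exact Ideal.mem_map_of_mem _ (Ideal.mem_sup_left (h i)))]
  exact Ideal.Quotient.eq.1 (DFunLike.congr_fun e b)

theorem formallyUnramified_of_isUniv (hu : OmegaSh.IsUnivThickeningRing A B B' π) :
    Algebra.FormallyUnramified A B' := by
  refine Algebra.FormallyUnramified.iff_comp_injective.2 fun T _ _ J hJ f g e => ?_
  have h : ∀ b, f b - g b ∈ J := fun b => Ideal.Quotient.eq.1 (DFunLike.congr_fun e b)
  let I' := (RingHom.ker π).map f
  have h1 := lifts_congr_mod_mul π hu J hJ f g h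
  have hJ₁ : (J * I') ^ 2 = ⊥ :=
    eq_bot_iff.2 ((Ideal.pow_right_mono Ideal.mul_le_left 2).trans hJ.le)
  refine AlgHom.ext fun b => ?_
  have h2 := lifts_congr_mod_mul π hu (J * I') hJ₁ f g h1 b
  rwa [mul_assoc, ← Ideal.map_mul, ← pow_two, show RingHom.ker π ^ 2 = ⊥ from hu.2.1, Ideal.map_bot,
    Ideal.mul_bot, Ideal.mem_bot, sub_eq_zero] at h2

/-- A derivation of `A` with values in a module killed by the kernel extends to the thickening. -/
theorem exists_derivation_extend {R A B B' : Type u} [CommRing R] [CommRing A] [CommRing B]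
    [CommRing B'] [Algebra A B] [Algebra R A] [Algebra A B'] [Algebra R B'] [IsScalarTower R A B']
    (π : B' →ₐ[A] B) (hu : OmegaSh.IsUnivThickeningRing A B B' π) (M : Type u) [AddCommGroup M]
    [Module B' M] (hIM : ∀ (i : B') (m : M), π i = 0 → i • m = 0) [Module A M] [IsScalarTower A B' M]
    [Module R M] [IsScalarTower R A M] (d : Derivation R A M) :
    ∃ D : Derivation R B' M, ∀ a, D (algebraMap A B' a) = d a := by
  let j : A →+* TrivSqZeroExt B' M :=
    { toFun := fun a => inl (algebraMap A B' a) + inr (d a)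
      map_one' := by rw [map_one, Derivation.map_one_eq_zero, inr_zero, add_zero, inl_one]
      map_zero' := by rw [map_zero, map_zero, inl_zero, inr_zero, add_zero]
      map_add' := fun a b => by rw [map_add, inl_add, map_add, inr_add]; abel
      map_mul' := fun a b => by
        refine TrivSqZeroExt.ext ?_ ?_
        · simp only [fst_add, fst_mul, fst_inl, fst_inr, add_zero, map_mul]
        · simp only [Derivation.leibniz, snd_add, snd_mul, snd_inl, snd_inr, fst_add, fst_inl, fst_inr,
            add_zero, zero_add, op_smul_eq_smul, algebraMap_smul] }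
  let algT : Algebra A (TrivSqZeroExt B' M) := j.toAlgebra
  have hj : ∀ a, algebraMap A (TrivSqZeroExt B' M) a = j a := fun _ => rfl
  let pr : TrivSqZeroExt B' M →ₐ[A] B' :=
    { (TrivSqZeroExt.fstHom B' B' M).toRingHom with
      commutes' := fun a => by
        change TrivSqZeroExt.fst (j a) = _
        simp [j] }
  let K : Ideal (TrivSqZeroExt B' M) := RingHom.ker (π.comp pr)
  have hK : K ^ 2 = ⊥ := by
    rw [eq_bot_iff, pow_two, Ideal.mul_le]
    intro x hx y hy
    have hx' : π x.fst = 0 := hx
    have hy' : π y.fst = 0 := hy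
    rw [Ideal.mem_bot]
    refine TrivSqZeroExt.ext ?_ ?_
    · have := Ideal.mul_mem_mul (show x.fst ∈ RingHom.ker π from hx') (show y.fst ∈ RingHom.ker π from hy')
      rw [← pow_two, show RingHom.ker π ^ 2 = ⊥ from hu.2.1, Ideal.mem_bot] at this
      rw [fst_mul, this, fst_zero]
    · rw [snd_mul, op_smul_eq_smul, hIM _ _ hx', hIM _ _ hy', add_zero, snd_zero]
  have hsurj : Function.Surjective (π.comp pr) := fun b => by
    obtain ⟨c, hc⟩ := hu.1 b
    exact ⟨inl c, by change π (TrivSqZeroExt.fst (inl c : TrivSqZeroExt B' M)) = b; rw [fst_inl]; exact hc⟩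
  let e := Ideal.quotientKerAlgEquivOfSurjective hsurj
  obtain ⟨φ, hφ, -⟩ := hu.2.2 (TrivSqZeroExt B' M) K hK e.symm.toAlgHom
  have hφ' : ∀ b, π (TrivSqZeroExt.fst (φ b)) = π b := fun b => by
    have := congrArg e (DFunLike.congr_fun hφ b)
    exact this.trans (e.apply_symm_apply (π b))
  have hε : pr.comp φ = AlgHom.id A B' := by
    obtain ⟨c, -, hc⟩ := hu.2.2 B' (RingHom.ker π) hu.2.1
      (Ideal.quotientKerAlgEquivOfSurjective (f := π) hu.1).symm.toAlgHom
    have hh : ∀ ψ : B' →ₐ[A] B', (∀ b, π (ψ b) = π b) → ψ = c := fun ψ hψ => hc ψ (AlgHom.ext fun b =>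
      (Ideal.quotientKerAlgEquivOfSurjective (f := π) hu.1).injective
        ((hψ b).trans ((Ideal.quotientKerAlgEquivOfSurjective (f := π) hu.1).apply_symm_apply (π b)).symm))
    rw [hh (pr.comp φ) hφ', hh (AlgHom.id A B') fun _ => rfl]
  have hfst : ∀ b, TrivSqZeroExt.fst (φ b) = b := fun b => DFunLike.congr_fun hε b
  refine ⟨{ toFun := fun b => TrivSqZeroExt.snd (φ b)
            map_add' := fun a b => by rw [map_add, snd_add]
            map_smul' := fun r b => by
              rw [Algebra.smul_def, IsScalarTower.algebraMap_apply R A B', map_mul, φ.commutes, snd_mul,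
                op_smul_eq_smul, hj]
              simp only [j, RingHom.coe_mk, MonoidHom.coe_mk, OneHom.coe_mk, fst_add, fst_inl, fst_inr,
                add_zero, snd_add, snd_inl, snd_inr, zero_add, Derivation.map_algebraMap, smul_zero,
                RingHom.id_apply, algebraMap_smul]
            map_one_eq_zero' := by
              change TrivSqZeroExt.snd (φ 1) = 0
              rw [map_one, snd_one]
            leibniz' := fun a b => by
              change TrivSqZeroExt.snd (φ (a * b)) = a • TrivSqZeroExt.snd (φ b) + b • TrivSqZeroExt.snd (φ a)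
              rw [map_mul, snd_mul, hfst, hfst, op_smul_eq_smul] }, fun a => ?_⟩
  change TrivSqZeroExt.snd (φ (algebraMap A B' a)) = _
  rw [φ.commutes, hj]
  simp only [j, RingHom.coe_mk, MonoidHom.coe_mk, OneHom.coe_mk, snd_add, snd_inl, snd_inr, zero_add]

theorem bijective_baseChange_mapBaseChange (R A B B' : Type u) [CommRing R] [CommRing A] [CommRing B]
    [CommRing B'] [Algebra A B] [Algebra R A] [Algebra A B'] [Algebra R B'] [IsScalarTower R A B']
    [Algebra B' B] [IsScalarTower A B' B]
    (hu : OmegaSh.IsUnivThickeningRing A B B' (IsScalarTower.toAlgHom A B' B)) :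
    Function.Bijective ((KaehlerDifferential.mapBaseChange R A B').baseChange B) := by
  have hunr := formallyUnramified_of_isUniv _ hu
  constructor
  · let M := B ⊗[B'] (B' ⊗[A] KaehlerDifferential R A)
    let ι : B' ⊗[A] KaehlerDifferential R A →ₗ[B'] M := TensorProduct.mk B' B _ 1
    let : Module R M := Module.compHom M (algebraMap R A)
    have : IsScalarTower R A M := IsScalarTower.of_algebraMap_smul fun _ _ => rfl
    have : IsScalarTower R B' M := IsScalarTower.of_algebraMap_smul fun r m => by
      rw [IsScalarTower.algebraMap_apply R A B', algebraMap_smul, algebraMap_smul]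
    let d : Derivation R A M :=
      ((ι.restrictScalars A).comp (TensorProduct.mk A B' (KaehlerDifferential R A) 1)).compDer
        (KaehlerDifferential.D R A)
    obtain ⟨D, hDd⟩ := exists_derivation_extend _ hu M (fun i m hi => by
      rw [← algebraMap_smul B i m, show algebraMap B' B i = 0 from hi, zero_smul]) d
    let ℓ := D.liftKaehlerDifferential
    have hℓι : ∀ z, ℓ (KaehlerDifferential.mapBaseChange R A B' z) = ι z := by
      intro z
      induction z using TensorProduct.induction_on with
      | zero => rw [map_zero, map_zero, map_zero]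
      | add x y hx hy => rw [map_add, map_add, map_add, hx, hy]
      | tmul b ω =>
        have hω : ω ∈ Submodule.span A (Set.range (KaehlerDifferential.D R A)) := by
          rw [KaehlerDifferential.span_range_derivation]; trivial
        induction hω using Submodule.span_induction generalizing b with
        | mem y hy =>
          obtain ⟨a, rfl⟩ := hy
          rw [KaehlerDifferential.mapBaseChange_tmul, KaehlerDifferential.map_D, map_smul,
            Derivation.liftKaehlerDifferential_comp_D]
          rw [hDd]
          change b • ι (1 ⊗ₜ KaehlerDifferential.D R A a) = _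
          rw [← map_smul, TensorProduct.smul_tmul', smul_eq_mul, mul_one]
        | zero => simp
        | add x y _ _ hx hy => rw [TensorProduct.tmul_add, map_add, map_add, map_add, hx, hy]
        | smul a x _ hx =>
          rw [← TensorProduct.smul_tmul]
          exact hx _
    let L : B ⊗[B'] KaehlerDifferential R B' →ₗ[B'] M :=
      TensorProduct.lift (LinearMap.mk₂ B' (fun b ω => b • ℓ ω) (fun _ _ _ => add_smul _ _ _)
        (fun c b ω => smul_assoc c b _) (fun _ _ _ => by rw [map_add, smul_add])
        (fun c b ω => by rw [map_smul, smul_comm]))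
    refine Function.LeftInverse.injective (g := L) fun x => ?_
    induction x using TensorProduct.induction_on with
    | zero => simp
    | add x y hx hy => rw [map_add, map_add, hx, hy]
    | tmul b z =>
      rw [LinearMap.baseChange_tmul]
      change b • ℓ (KaehlerDifferential.mapBaseChange R A B' z) = _
      rw [hℓι, TensorProduct.mk_apply, TensorProduct.smul_tmul', smul_eq_mul, mul_one]
  · refine LinearMap.baseChange_surjective B (fun ω => ?_)
    exact (KaehlerDifferential.exact_mapBaseChange_map R A B' ω).1 (Subsingleton.elim _ _)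

end Groth.Agent.UnivThick
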