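import Groth.Prelude.Def_Omega3
import Mathlib.RingTheory.Localization.Basic
import Mathlib.RingTheory.Localization.Ideal
import Mathlib.RingTheory.Nilpotent.Lemmas
import Mathlib.RingTheory.Ideal.Quotient.Operations

/-! Universal first order thickenings and localisation. -/

universe u

namespace Groth.Agent.UnivThick

variable {A B B' : Type u} [CommRing A] [CommRing B] [CommRing B'] [Algebra A B] [Algebra A B']

theorem isUniv_localization (π : B' →ₐ[A] B) (hu : OmegaSh.IsUnivThickeningRing A B B' π) (N : Submonoid B')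
    {N₀ : Submonoid B} (hN : N.map π.toRingHom.toMonoidHom = N₀)
    (BS B'S : Type u) [CommRing BS] [CommRing B'S] [Algebra B BS] [IsLocalization N₀ BS]
    [Algebra B' B'S] [IsLocalization N B'S] [Algebra A BS] [IsScalarTower A B BS] [Algebra A B'S]
    [IsScalarTower A B' B'S] (πS : B'S →ₐ[A] BS)
    (hπS : ∀ x : B', πS (algebraMap B' B'S x) = algebraMap B BS (π x)) :
    OmegaSh.IsUnivThickeningRing A BS B'S πS := by
  subst hN
  refine ⟨fun y => ?_, ?_, fun T _ _ I hI a => ?_⟩
  · obtain ⟨⟨b, ⟨_, s, hs, rfl⟩⟩, hy⟩ := IsLocalization.surj (N.map π.toRingHom.toMonoidHom) y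
    obtain ⟨b', rfl⟩ := hu.1 b
    refine ⟨IsLocalization.mk' B'S b' ⟨s, hs⟩, ?_⟩
    have hu' : IsUnit (algebraMap B BS (π s)) :=
      IsLocalization.map_units BS (⟨π s, s, hs, rfl⟩ : N.map π.toRingHom.toMonoidHom)
    refine hu'.mul_right_cancel ?_
    rw [← hπS, ← map_mul, IsLocalization.mk'_spec, hπS]
    refine hy.symm.trans ?_
    rw [hπS]
    rfl
  · rw [eq_bot_iff, pow_two, Ideal.mul_le]
    have key : ∀ x ∈ RingHom.ker πS.toRingHom, ∃ (b : B') (s : N), π b = 0 ∧ IsLocalization.mk' B'S b s = x := by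
      intro x hx
      obtain ⟨b, s, rfl⟩ := IsLocalization.exists_mk'_eq N x
      have h0 : algebraMap B BS (π b) = 0 := by
        rw [← hπS, ← IsLocalization.mk'_spec B'S b s, map_mul]
        rw [show πS (IsLocalization.mk' B'S b s) = 0 from hx, zero_mul]
      obtain ⟨⟨_, t, ht, rfl⟩, h1⟩ := (IsLocalization.map_eq_zero_iff (N.map π.toRingHom.toMonoidHom) BS _).1 h0
      refine ⟨t * b, ⟨t, ht⟩ * s, by rw [map_mul]; exact h1, ?_⟩
      rw [IsLocalization.mk'_mul, IsLocalization.mk'_self, one_mul]
    intro x hx y hy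
    obtain ⟨b, s, hb, rfl⟩ := key x hx
    obtain ⟨c, t, hc, rfl⟩ := key y hy
    have := Ideal.mul_mem_mul (show b ∈ RingHom.ker π.toRingHom from hb) (show c ∈ RingHom.ker π.toRingHom from hc)
    rw [← pow_two, hu.2.1, Ideal.mem_bot] at this
    rw [Ideal.mem_bot, ← IsLocalization.mk'_mul, this, IsLocalization.mk'_zero]
  · obtain ⟨a', ha', huniq⟩ := hu.2.2 T I hI (a.comp (IsScalarTower.toAlgHom A B BS))
    have ha'' : ∀ b, Ideal.Quotient.mk I (a' b) = a (algebraMap B BS (π b)) := fun b => DFunLike.congr_fun ha' b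
    have hunit : ∀ s : N, IsUnit (a'.toRingHom s) := fun s => by
      refine (IsNilpotent.isUnit_quotient_mk_iff (⟨2, hI⟩ : IsNilpotent I)).1 ?_
      change IsUnit (Ideal.Quotient.mk I (a' s))
      rw [ha'']
      exact (IsLocalization.map_units BS (⟨π s, s, s.2, rfl⟩ : N.map π.toRingHom.toMonoidHom)).map a
    let g : B'S →+* T := IsLocalization.lift hunit
    let G : B'S →ₐ[A] T :=
      { g with
        commutes' := fun r => by
          change g (algebraMap A B'S r) = _
          rw [IsScalarTower.algebraMap_apply A B' B'S, IsLocalization.lift_eq]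
          exact a'.commutes r }
    refine ⟨G, ?_, fun G' hG' => ?_⟩
    · refine AlgHom.coe_ringHom_injective (IsLocalization.ringHom_ext N (RingHom.ext fun b => ?_))
      change Ideal.Quotient.mk I (g (algebraMap B' B'S b)) = a (πS (algebraMap B' B'S b))
      rw [IsLocalization.lift_eq, hπS]
      exact ha'' b
    · refine AlgHom.coe_ringHom_injective (IsLocalization.ringHom_ext N (RingHom.ext fun b => ?_))
      change G' (algebraMap B' B'S b) = g (algebraMap B' B'S b)
      rw [IsLocalization.lift_eq]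
      refine DFunLike.congr_fun (huniq (G'.comp (IsScalarTower.toAlgHom A B' B'S)) (AlgHom.ext fun c => ?_)) b
      refine (DFunLike.congr_fun hG' (algebraMap B' B'S c)).trans ?_
      exact congrArg a (hπS c)

theorem isUniv_base (S : Submonoid A) (AS BS B'S : Type u) [CommRing AS] [CommRing BS] [CommRing B'S]
    [Algebra A AS] [IsLocalization S AS] [Algebra AS BS] [Algebra A BS] [IsScalarTower A AS BS]
    [Algebra AS B'S] [Algebra A B'S] [IsScalarTower A AS B'S] (πS : B'S →ₐ[AS] BS)
    (h : OmegaSh.IsUnivThickeningRing A BS B'S (πS.restrictScalars A)) :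
    OmegaSh.IsUnivThickeningRing AS BS B'S πS := by
  refine ⟨h.1, h.2.1, fun T _ _ I hI a => ?_⟩
  let : Algebra A T := ((algebraMap AS T).comp (algebraMap A AS)).toAlgebra
  have : IsScalarTower A AS T := IsScalarTower.of_algebraMap_eq fun _ => rfl
  obtain ⟨g, hg, huniq⟩ := h.2.2 T I hI (a.restrictScalars A)
  let G : B'S →ₐ[AS] T :=
    { g.toRingHom with
      commutes' := fun r => by
        refine DFunLike.congr_fun (IsLocalization.ringHom_ext S (j := g.toRingHom.comp (algebraMap AS B'S))
          (k := algebraMap AS T) (RingHom.ext fun x => ?_)) r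
        change g (algebraMap AS B'S (algebraMap A AS x)) = _
        rw [← IsScalarTower.algebraMap_apply, g.commutes]
        rfl }
  refine ⟨G, AlgHom.ext fun x => DFunLike.congr_fun hg x, fun G' hG' => AlgHom.ext fun x => ?_⟩
  exact DFunLike.congr_fun (huniq (G'.restrictScalars A) (AlgHom.ext fun x => DFunLike.congr_fun hG' x)) x

end Groth.Agent.UnivThick
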