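import Groth.Agent.MorLib.FormallyEtaleHom
import Groth.Agent.UnivThick.Ring
import Groth.Agent.UnivThick.Diff
import Mathlib.AlgebraicGeometry.Morphisms.FormallyUnramified
import Mathlib.AlgebraicGeometry.Morphisms.Affine

/-! Universal first order thickenings of schemes: formal properties. -/

universe u

open CategoryTheory Limits AlgebraicGeometry

namespace Groth.Agent.UnivThick

variable {Z Z' X : Scheme.{u}} {h : Z ⟶ X} {i : Z ⟶ Z'} {h' : Z' ⟶ X}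

theorem univ_hom_ext (hu : OmegaSh.IsUnivThickening h i h') {T T' : Scheme.{u}} {j : T ⟶ T'}
    (hj : MoreMor.IsFirstOrderThickening j) (a : T ⟶ Z) {l₁ l₂ : T' ⟶ Z'}
    (h₁ : j ≫ l₁ = a ≫ i) (h₂ : j ≫ l₂ = a ≫ i) (h₃ : l₁ ≫ h' = l₂ ≫ h') : l₁ = l₂ := by
  obtain ⟨l, -, hl⟩ := hu.2.2 T T' j (l₁ ≫ h') a hj (by rw [reassoc_of% h₁, hu.2.1])
  rw [hl l₁ ⟨h₁, rfl⟩, hl l₂ ⟨h₂, h₃.symm⟩]

theorem isUniv_open (hu : OmegaSh.IsUnivThickening h i h') (V' : Z'.Opens) :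
    OmegaSh.IsUnivThickening ((i ⁻¹ᵁ V').ι ≫ h) (i ∣_ V') (V'.ι ≫ h') := by
  refine ⟨MorLib.isFirstOrderThickening_restrict i hu.1 V', by rw [morphismRestrict_ι_assoc, hu.2.1],
    fun T T' j b a hj w => ?_⟩
  have := hj.1.2
  obtain ⟨l, ⟨hl1, hl2⟩, hl⟩ := hu.2.2 T T' j b (a ≫ (i ⁻¹ᵁ V').ι) hj (by rw [w, Category.assoc])
  have hr : Set.range l ⊆ Set.range V'.ι :=
    MorLib.range_lift_subset j V'.ι (a ≫ i ∣_ V') l (by rw [hl1, Category.assoc, Category.assoc, morphismRestrict_ι])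
  refine ⟨IsOpenImmersion.lift V'.ι l hr, ⟨?_, ?_⟩, fun m ⟨hm1, hm2⟩ => ?_⟩
  · rw [← cancel_mono V'.ι, Category.assoc, IsOpenImmersion.lift_fac, hl1, Category.assoc, Category.assoc,
      morphismRestrict_ι]
  · rw [IsOpenImmersion.lift_fac_assoc, hl2]
  · rw [← cancel_mono V'.ι, IsOpenImmersion.lift_fac]
    refine hl _ ⟨?_, by rw [Category.assoc, hm2]⟩
    rw [reassoc_of% hm1, morphismRestrict_ι, Category.assoc]

theorem isUniv_of_comp_mono {U : Scheme.{u}} (k : U ⟶ X) [Mono k] {g : Z ⟶ U} {g' : Z' ⟶ U}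
    (hu : OmegaSh.IsUnivThickening (g ≫ k) i (g' ≫ k)) : OmegaSh.IsUnivThickening g i g' := by
  refine ⟨hu.1, by rw [← cancel_mono k, Category.assoc]; exact hu.2.1, fun T T' j b a hj w => ?_⟩
  obtain ⟨l, ⟨hl1, hl2⟩, hl⟩ := hu.2.2 T T' j (b ≫ k) a hj (by rw [← Category.assoc, w, Category.assoc])
  exact ⟨l, ⟨hl1, by rw [← cancel_mono k, Category.assoc, hl2]⟩,
    fun m ⟨hm1, hm2⟩ => hl m ⟨hm1, by rw [reassoc_of% hm2]⟩⟩

theorem isUniv_comp_open {U : Scheme.{u}} (k : U ⟶ X) [IsOpenImmersion k] {g : Z ⟶ U} {g' : Z' ⟶ U}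
    (hu : OmegaSh.IsUnivThickening g i g') : OmegaSh.IsUnivThickening (g ≫ k) i (g' ≫ k) := by
  refine ⟨hu.1, by rw [reassoc_of% hu.2.1], fun T T' j b a hj w => ?_⟩
  have := hj.1.2
  have hr : Set.range b ⊆ Set.range k :=
    MorLib.range_lift_subset j k (a ≫ g) b (by rw [w, Category.assoc])
  obtain ⟨l, ⟨hl1, hl2⟩, hl⟩ := hu.2.2 T T' j (IsOpenImmersion.lift k b hr) a hj
    (by rw [← cancel_mono k, Category.assoc, IsOpenImmersion.lift_fac, w, Category.assoc])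
  refine ⟨l, ⟨hl1, by rw [reassoc_of% hl2, IsOpenImmersion.lift_fac]⟩, fun m ⟨hm1, hm2⟩ => hl m ⟨hm1, ?_⟩⟩
  rw [← cancel_mono k, Category.assoc, IsOpenImmersion.lift_fac, hm2]

theorem isFirstOrderThickening_of_arrowIso {A B A' B' : Scheme.{u}} {f : A ⟶ B} {f' : A' ⟶ B'}
    (e : A ≅ A') (e' : B ≅ B') (w : e.hom ≫ f' = f ≫ e'.hom) (hf : MoreMor.IsFirstOrderThickening f) :
    MoreMor.IsFirstOrderThickening f' := by
  obtain ⟨⟨hc, hs⟩, h2⟩ := hf
  have he : f' = e.inv ≫ f ≫ e'.hom := by rw [← w, Iso.inv_hom_id_assoc]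
  refine ⟨⟨he ▸ inferInstance, he ▸ inferInstance⟩, ?_⟩
  subst he
  rw [Scheme.Hom.ker_comp_of_isIso]
  refine Scheme.IdealSheafData.ext (funext fun V => ?_)
  have hV : IsAffineOpen (e'.hom ⁻¹ᵁ V.1) := V.2.preimage_of_isIso e'.hom
  have h3 := congr(($h2).ideal ⟨e'.hom ⁻¹ᵁ V.1, hV⟩)
  simp only [Scheme.IdealSheafData.ideal_mul, Pi.mul_apply, Scheme.Hom.ker_apply,
    Scheme.IdealSheafData.ideal_bot, Pi.bot_apply, Scheme.Hom.comp_app] at h3 ⊢
  rw [eq_bot_iff, Ideal.mul_le] at h3 ⊢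
  intro x hx y hy
  have h4 := h3 _ (RingHom.mem_ker.2 (RingHom.mem_ker.1 hx)) _ (RingHom.mem_ker.2 (RingHom.mem_ker.1 hy))
  rw [Ideal.mem_bot, ← map_mul] at h4
  rw [Ideal.mem_bot]
  exact (map_eq_zero_iff _ (ConcreteCategory.bijective_of_isIso (e'.hom.app V.1)).1).1 h4

theorem isUniv_of_iso {W W' : Scheme.{u}} (eZ : W ≅ Z) (eZ' : W' ≅ Z') (iW : W ⟶ W')
    (w : eZ.hom ≫ i = iW ≫ eZ'.hom) (hu : OmegaSh.IsUnivThickening h i h') :
    OmegaSh.IsUnivThickening (eZ.hom ≫ h) iW (eZ'.hom ≫ h') := by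
  refine ⟨isFirstOrderThickening_of_arrowIso eZ.symm eZ'.symm ?_ hu.1, ?_, fun T T' j b a hj wb => ?_⟩
  · rw [Iso.symm_hom, Iso.symm_hom, Iso.inv_comp_eq, ← Category.assoc, Iso.eq_comp_inv, w]
  · rw [← Category.assoc, ← w, Category.assoc, hu.2.1]
  obtain ⟨l, ⟨hl1, hl2⟩, hl⟩ := hu.2.2 T T' j b (a ≫ eZ.hom) hj (by rw [wb, Category.assoc])
  refine ⟨l ≫ eZ'.inv, ⟨?_, by simp [hl2]⟩, fun m ⟨hm1, hm2⟩ => ?_⟩
  · rw [← cancel_mono eZ'.hom, Category.assoc, Category.assoc, Iso.inv_hom_id, Category.comp_id, hl1,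
      Category.assoc, Category.assoc, w]
  · rw [← cancel_mono eZ'.hom, Category.assoc, Iso.inv_hom_id, Category.comp_id]
    exact hl _ ⟨by rw [reassoc_of% hm1, Category.assoc, w], by rw [Category.assoc, hm2]⟩

theorem isUniv_congr {g : Z ⟶ X} {g' : Z' ⟶ X} (hg : h = g) (hg' : h' = g')
    (hu : OmegaSh.IsUnivThickening h i h') : OmegaSh.IsUnivThickening g i g' := hg ▸ hg' ▸ hu

theorem exists_iso_of_isUniv {Z'' : Scheme.{u}} {i₂ : Z ⟶ Z''} {h₂ : Z'' ⟶ X}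
    (hu : OmegaSh.IsUnivThickening h i h') (hu₂ : OmegaSh.IsUnivThickening h i₂ h₂) :
    ∃ e : Z' ≅ Z'', i ≫ e.hom = i₂ ∧ e.hom ≫ h₂ = h' := by
  obtain ⟨f, ⟨hf1, hf2⟩, -⟩ := hu₂.2.2 Z Z' i h' (𝟙 Z) hu.1 (by rw [hu.2.1, Category.id_comp])
  obtain ⟨g, ⟨hg1, hg2⟩, -⟩ := hu.2.2 Z Z'' i₂ h₂ (𝟙 Z) hu₂.1 (by rw [hu₂.2.1, Category.id_comp])
  rw [Category.id_comp] at hf1 hg1
  refine ⟨⟨f, g, univ_hom_ext hu hu.1 (𝟙 Z) ?_ (by simp) ?_,
    univ_hom_ext hu₂ hu₂.1 (𝟙 Z) ?_ (by simp) ?_⟩, hf1, hf2⟩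
  · rw [reassoc_of% hf1, hg1, Category.id_comp]
  · rw [Category.assoc, hg2, hf2, Category.id_comp]
  · rw [reassoc_of% hg1, hf1, Category.id_comp]
  · rw [Category.assoc, hf2, hg2, Category.id_comp]

/-- Universality only has to be tested on `Spec (A/I) ⟶ Spec A`. -/
theorem isUniv_of_spec (hi : MoreMor.IsFirstOrderThickening i) (hw : i ≫ h' = h)
    (H : ∀ (A : CommRingCat.{u}) (I : Ideal A), I ^ 2 = ⊥ →
      ∀ (a : Spec (CommRingCat.of (A ⧸ I)) ⟶ Z) (b : Spec A ⟶ X),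
        Spec.map (CommRingCat.ofHom (Ideal.Quotient.mk I)) ≫ b = a ≫ h →
          ∃! l : Spec A ⟶ Z', Spec.map (CommRingCat.ofHom (Ideal.Quotient.mk I)) ≫ l = a ≫ i ∧ l ≫ h' = b) :
    OmegaSh.IsUnivThickening h i h' := by
  refine ⟨hi, hw, fun T T' j b a hj wb => MorLib.existsUnique_lift_of_local h' j (a ≫ i) b fun x => ⟨⊤, trivial, ?_⟩⟩
  intro W _ hW
  have : IsAffine W.toScheme := hW
  obtain ⟨A, I, hI, e', e, he⟩ :=
    MorLib.exists_iso_quotientMk (j ∣_ W) (MorLib.isFirstOrderThickening_restrict j hj W)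
  obtain ⟨l, ⟨hl1, hl2⟩, hl⟩ := H A I hI (e.hom ≫ (j ⁻¹ᵁ W).ι ≫ a) (e'.hom ≫ W.ι ≫ b) (by
    rw [← reassoc_of% he, morphismRestrict_ι_assoc, wb]
    simp only [Category.assoc])
  refine ⟨e'.inv ≫ l, ⟨?_, ?_⟩, fun m ⟨hm1, hm2⟩ => ?_⟩
  · rw [← cancel_epi e.hom, reassoc_of% he, e'.hom_inv_id_assoc, hl1]
    simp only [Category.assoc]
  · rw [Category.assoc, hl2, e'.inv_hom_id_assoc]
  · have := hl (e'.hom ≫ m) ⟨by rw [← reassoc_of% he, hm1]; simp only [Category.assoc],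
      by rw [Category.assoc, hm2]⟩
    rw [← this, e'.inv_hom_id_assoc]

/-- Universality is local on the thickening. -/
theorem isUniv_of_cover (hi : MoreMor.IsFirstOrderThickening i) (hw : i ≫ h' = h)
    (H : ∀ z : Z, ∃ V' : Z'.Opens, i z ∈ V' ∧
      OmegaSh.IsUnivThickening ((i ⁻¹ᵁ V').ι ≫ h) (i ∣_ V') (V'.ι ≫ h')) :
    OmegaSh.IsUnivThickening h i h' := by
  refine ⟨hi, hw, fun T T' j b a hj wb => MorLib.existsUnique_lift_of_local h' j (a ≫ i) b fun x => ?_⟩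
  have hjs := hj.1.2
  have hjc := hj.1.1
  obtain ⟨y, rfl⟩ := j.surjective x
  obtain ⟨V', hyV', hV'⟩ := H (a y)
  have hopen : IsOpen (j '' ((a ≫ i) ⁻¹ᵁ V' : Set _)) :=
    (j.isClosedEmbedding.toIsEmbedding.toHomeomorphOfSurjective j.surjective).isOpenMap _
      ((a ≫ i) ⁻¹ᵁ V').isOpen
  refine ⟨⟨_, hopen⟩, ⟨y, hyV', rfl⟩, fun W hW _ => ?_⟩
  have hjW := MorLib.isFirstOrderThickening_restrict j hj W
  have := hjW.1.2
  have ha : Set.range ((j ⁻¹ᵁ W).ι ≫ a) ⊆ Set.range (i ⁻¹ᵁ V').ι := by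
    rintro _ ⟨q, rfl⟩
    obtain ⟨q', hq', heq⟩ := hW q.2
    have := j.isClosedEmbedding.injective heq
    subst this
    rw [Scheme.Opens.range_ι]
    exact hq'
  obtain ⟨l, ⟨hl1, hl2⟩, hl⟩ := hV'.2.2 _ _ (j ∣_ W) (W.ι ≫ b) (IsOpenImmersion.lift _ _ ha) hjW (by
    rw [IsOpenImmersion.lift_fac_assoc, morphismRestrict_ι_assoc, wb, Category.assoc])
  refine ⟨l ≫ V'.ι, ⟨?_, ?_⟩, fun m ⟨hm1, hm2⟩ => ?_⟩
  · rw [reassoc_of% hl1, morphismRestrict_ι, IsOpenImmersion.lift_fac_assoc]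
    simp only [Category.assoc]
  · rw [Category.assoc, hl2]
  · have hr : Set.range m ⊆ Set.range V'.ι :=
      MorLib.range_lift_subset (j ∣_ W) V'.ι (IsOpenImmersion.lift _ _ ha ≫ i ∣_ V') m (by
        rw [hm1, Category.assoc, morphismRestrict_ι, IsOpenImmersion.lift_fac_assoc]
        simp only [Category.assoc])
    rw [← IsOpenImmersion.lift_fac V'.ι m hr]
    congr 1
    refine hl _ ⟨?_, by rw [IsOpenImmersion.lift_fac_assoc, hm2]⟩
    rw [← cancel_mono V'.ι, Category.assoc, IsOpenImmersion.lift_fac, hm1, Category.assoc, morphismRestrict_ι,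
      IsOpenImmersion.lift_fac_assoc]
    simp only [Category.assoc]

theorem isFirstOrderThickening_specMap {A B : Type u} [CommRing A] [CommRing B] (π : A →+* B)
    (hs : Function.Surjective π) (h2 : RingHom.ker π ^ 2 = ⊥) :
    MoreMor.IsFirstOrderThickening (Spec.map (CommRingCat.ofHom π)) := by
  let e := RingHom.quotientKerEquivOfSurjective hs
  refine isFirstOrderThickening_of_arrowIso (Scheme.Spec.mapIso e.symm.toCommRingCatIso.op) (Iso.refl _) ?_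
    (MorLib.isFirstOrderThickening_quotientMk A (RingHom.ker π) h2)
  rw [Iso.refl_hom, Category.comp_id]
  change Spec.map e.symm.toCommRingCatIso.hom ≫ Spec.map (CommRingCat.ofHom π) = _
  rw [← Spec.map_comp]
  congr 1
  ext x
  exact e.symm_apply_eq.2 (RingHom.quotientKerEquivOfSurjective_apply_mk hs x).symm

/-- The scheme of a universal thickening ring is a universal thickening. -/
theorem isUniv_Spec {R S S' : Type u} [CommRing R] [CommRing S] [CommRing S'] [Algebra R S] [Algebra R S']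
    (π : S' →ₐ[R] S) (hπ : OmegaSh.IsUnivThickeningRing R S S' π) :
    OmegaSh.IsUnivThickening (Spec.map (CommRingCat.ofHom (algebraMap R S)))
      (Spec.map (CommRingCat.ofHom π.toRingHom)) (Spec.map (CommRingCat.ofHom (algebraMap R S'))) := by
  refine isUniv_of_spec (isFirstOrderThickening_specMap π.toRingHom hπ.1 hπ.2.1) ?_ fun A I hI a b w => ?_
  · rw [← Spec.map_comp]
    congr 1
    ext x
    exact π.commutes x
  obtain ⟨α, rfl⟩ := Spec.map_surjective a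
  obtain ⟨β, rfl⟩ := Spec.map_surjective b
  let := β.hom.toAlgebra
  rw [← Spec.map_comp, ← Spec.map_comp, Spec.map_inj] at w
  let g : S →ₐ[R] A ⧸ I := ⟨α.hom, fun r => (congr($w r)).symm⟩
  obtain ⟨ψ, hψ, hu⟩ := hπ.2.2 A I hI g
  refine ⟨Spec.map (CommRingCat.ofHom ψ.toRingHom), ⟨?_, ?_⟩, fun m ⟨hm1, hm2⟩ => ?_⟩
  · rw [← Spec.map_comp, ← Spec.map_comp, Spec.map_inj]; ext x; exact congr($hψ x)
  · rw [← Spec.map_comp, Spec.map_inj]; ext x; exact ψ.commutes x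
  · obtain ⟨μ, rfl⟩ := Spec.map_surjective m
    rw [← Spec.map_comp, ← Spec.map_comp, Spec.map_inj] at hm1
    rw [← Spec.map_comp, Spec.map_inj] at hm2
    have := hu ⟨μ.hom, fun r => congr($hm2 r)⟩ (AlgHom.ext fun x => congr($hm1 x))
    rw [Spec.map_inj]
    ext x
    exact congr($this x)

/-- Sections of a universal thickening over affine opens. -/
theorem isUnivRing_of_affineOpens (hu : OmegaSh.IsUnivThickening h i h') {U : X.Opens} (hU : IsAffineOpen U)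
    {V' : Z'.Opens} (hV' : IsAffineOpen V') (e : V' ≤ h' ⁻¹ᵁ U)
    (π : Γ(Z', V') ⟶ Γ(Z, i ⁻¹ᵁ V')) (hπ : π = i.app V') :
    letI := (h'.appLE U V' e).hom.toAlgebra
    letI := ((i.app V').hom.comp (h'.appLE U V' e).hom).toAlgebra
    OmegaSh.IsUnivThickeningRing Γ(X, U) Γ(Z, i ⁻¹ᵁ V') Γ(Z', V') ⟨π.hom, fun r => hπ ▸ rfl⟩ := by
  subst hπ
  let := (h'.appLE U V' e).hom.toAlgebra
  let := ((i.app V').hom.comp (h'.appLE U V' e).hom).toAlgebra
  have := hu.1.1.1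
  have hV : IsAffineOpen (i ⁻¹ᵁ V') := hV'.preimage i
  have hi : Spec.map (i.app V') ≫ hV'.fromSpec = hV.fromSpec ≫ i := by
    rw [Scheme.Hom.app_eq_appLE]
    exact IsAffineOpen.SpecMap_appLE_fromSpec i hV' hV _
  have hh' := IsAffineOpen.SpecMap_appLE_fromSpec h' hU hV' e
  refine ⟨i.app_surjective V' hV', ?_, fun A _ _ I hI a => ?_⟩
  · have h2 := congr(($(hu.1.2)).ideal ⟨V', hV'⟩)
    simp only [Scheme.IdealSheafData.ideal_mul, Pi.mul_apply, Scheme.Hom.ker_apply,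
      Scheme.IdealSheafData.ideal_bot, Pi.bot_apply] at h2
    rw [pow_two]
    exact h2
  have hj := MorLib.isFirstOrderThickening_quotientMk A I hI
  have := hj.1.2
  obtain ⟨l, ⟨hl1, hl2⟩, -⟩ := hu.2.2 _ _ (Spec.map (CommRingCat.ofHom (Ideal.Quotient.mk I)))
    (Spec.map (CommRingCat.ofHom (algebraMap Γ(X, U) A)) ≫ hU.fromSpec)
    (Spec.map (CommRingCat.ofHom a.toRingHom) ≫ hV.fromSpec) hj (by
      rw [Category.assoc, ← hu.2.1, ← Category.assoc (hV.fromSpec), ← hi, Category.assoc, ← hh']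
      rw [← Category.assoc, ← Category.assoc, ← Category.assoc, ← Spec.map_comp, ← Spec.map_comp, ← Spec.map_comp]
      congr 2
      ext r
      exact (a.commutes r).symm)
  have hr : Set.range l ⊆ Set.range hV'.fromSpec :=
    MorLib.range_lift_subset _ hV'.fromSpec (Spec.map (CommRingCat.ofHom a.toRingHom) ≫ Spec.map (i.app V')) l
      (by rw [hl1, Category.assoc, Category.assoc, hi])
  obtain ⟨ψ, hψ⟩ := Spec.map_surjective (IsOpenImmersion.lift hV'.fromSpec l hr)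
  have hψ' : Spec.map ψ ≫ hV'.fromSpec = l := by rw [hψ, IsOpenImmersion.lift_fac]
  have h1 : ψ ≫ CommRingCat.ofHom (Ideal.Quotient.mk I) = i.app V' ≫ CommRingCat.ofHom a.toRingHom := by
    apply Spec.map_injective
    rw [← cancel_mono hV'.fromSpec, Spec.map_comp, Spec.map_comp, Category.assoc, Category.assoc, hψ', hi,
      hl1, Category.assoc]
  have h2 : h'.appLE U V' e ≫ ψ = CommRingCat.ofHom (algebraMap Γ(X, U) A) := by
    apply Spec.map_injective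
    rw [← cancel_mono hU.fromSpec, Spec.map_comp, Category.assoc, hh', reassoc_of% hψ', hl2]
  refine ⟨⟨ψ.hom, fun r => congr($h2 r)⟩, AlgHom.ext fun x => congr($h1 x), fun g hg => ?_⟩
  have e1 : Spec.map (CommRingCat.ofHom (Ideal.Quotient.mk I)) ≫ Spec.map (CommRingCat.ofHom g.toRingHom) ≫
      hV'.fromSpec = (Spec.map (CommRingCat.ofHom a.toRingHom) ≫ hV.fromSpec) ≫ i := by
    rw [Category.assoc, ← hi, ← Category.assoc, ← Category.assoc, ← Spec.map_comp, ← Spec.map_comp]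
    congr 2
    ext x
    exact congr($hg x)
  have e2 : (Spec.map (CommRingCat.ofHom g.toRingHom) ≫ hV'.fromSpec) ≫ h' = l ≫ h' := by
    rw [hl2, Category.assoc, ← hh', ← Category.assoc, ← Spec.map_comp]
    congr 2
    ext r
    exact g.commutes r
  have h3 := univ_hom_ext hu hj _ e1 hl1 e2
  rw [← hψ', cancel_mono, Spec.map_inj] at h3
  exact AlgHom.ext fun x => congr($h3 x)

theorem formallyUnramified_of_isUnivThickening (hu : OmegaSh.IsUnivThickening h i h') :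
    FormallyUnramified h' := by
  refine ⟨fun {U} hU {V'} hV' e => ?_⟩
  let := (h'.appLE U V' e).hom.toAlgebra
  let := ((i.app V').hom.comp (h'.appLE U V' e).hom).toAlgebra
  exact formallyUnramified_of_isUniv _ (isUnivRing_of_affineOpens hu hU hV' e _ rfl)

end Groth.Agent.UnivThick
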