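import Groth.Agent.UnivThick.Scheme
import Groth.Agent.UnivThick.Loc
import Groth.Agent.Synt29.OmegaMaps
import Groth.Agent.KFlatLib.Scheme.Exact
import Groth.Agent.KFlatLib.Scheme.Pullback

/-!
Universal first order thickenings on local rings.
-/

set_option autoImplicit false
set_option backward.isDefEq.respectTransparency false
set_option backward.isDefEq.respectTransparency.types false

universe u

open CategoryTheory CategoryTheory.Limits AlgebraicGeometry TopologicalSpace Opposite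
open scoped TensorProduct

namespace Groth.Agent.UnivThick

variable {Z X Z' : Scheme.{u}} {h : Z ⟶ X} {i : Z ⟶ Z'} {h' : Z' ⟶ X}

theorem map_primeCompl_of_surjective {B' B : Type u} [CommRing B'] [CommRing B] (π : B' →+* B)
    (hπ : Function.Surjective π) (p : Ideal B) [p.IsPrime] (q : Ideal B') [q.IsPrime] (hq : p.comap π = q) :
    q.primeCompl.map π.toMonoidHom = p.primeCompl := by
  ext b
  obtain ⟨c, rfl⟩ := hπ b
  constructor
  · rintro ⟨d, hd, hdc⟩
    intro hc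
    refine hd ?_
    rw [← hq]
    show π d ∈ p
    rw [show π d = π c from hdc]
    exact hc
  · intro hc
    exact ⟨c, fun hcq => hc (show c ∈ p.comap π from hq ▸ hcq), rfl⟩

/-- Local rings of a universal thickening. -/
theorem isUnivRing_stalk (hu : OmegaSh.IsUnivThickening h i h') (z : Z) :
    letI := (h'.stalkMap (i z)).hom.toAlgebra
    letI := (h'.stalkMap (i z) ≫ i.stalkMap z).hom.toAlgebra
    OmegaSh.IsUnivThickeningRing (X.presheaf.stalk (h' (i z))) (Z.presheaf.stalk z) (Z'.presheaf.stalk (i z))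
      ⟨(i.stalkMap z).hom, fun _ => rfl⟩ := by
  haveI := hu.1.1.1
  obtain ⟨_, ⟨U, hU, rfl⟩, hxU, -⟩ :=
    X.isBasis_affineOpens.exists_subset_of_mem_open (Set.mem_univ (h' (i z))) isOpen_univ
  obtain ⟨_, ⟨V', hV', rfl⟩, hyV, e⟩ :=
    Z'.isBasis_affineOpens.exists_subset_of_mem_open (show i z ∈ h' ⁻¹ᵁ U from hxU) (h' ⁻¹ᵁ U).isOpen
  replace e : V' ≤ h' ⁻¹ᵁ U := e
  replace hU : IsAffineOpen U := hU
  replace hV' : IsAffineOpen V' := hV'
  have hV : IsAffineOpen (i ⁻¹ᵁ V') := hV'.preimage i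
  letI := (h'.stalkMap (i z)).hom.toAlgebra
  letI := (h'.stalkMap (i z) ≫ i.stalkMap z).hom.toAlgebra
  letI := (h'.appLE U V' e).hom.toAlgebra
  letI := ((i.app V').hom.comp (h'.appLE U V' e).hom).toAlgebra
  have hu0 := isUnivRing_of_affineOpens hu hU hV' e _ rfl
  letI : Algebra Γ(Z', V') (Z'.presheaf.stalk (i z)) := (Z'.presheaf.germ V' _ hyV).hom.toAlgebra
  letI : Algebra Γ(Z, i ⁻¹ᵁ V') (Z.presheaf.stalk z) := (Z.presheaf.germ (i ⁻¹ᵁ V') z hyV).hom.toAlgebra
  letI : Algebra Γ(X, U) (X.presheaf.stalk (h' (i z))) := (X.presheaf.germ U _ hxU).hom.toAlgebra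
  haveI : IsLocalization.AtPrime (Z'.presheaf.stalk (i z)) (hV'.primeIdealOf ⟨i z, hyV⟩).asIdeal :=
    hV'.isLocalization_stalk ⟨i z, hyV⟩
  haveI : IsLocalization.AtPrime (Z.presheaf.stalk z) (hV.primeIdealOf ⟨z, hyV⟩).asIdeal :=
    hV.isLocalization_stalk ⟨z, hyV⟩
  haveI : IsLocalization.AtPrime (X.presheaf.stalk (h' (i z))) (hU.primeIdealOf ⟨h' (i z), hxU⟩).asIdeal :=
    hU.isLocalization_stalk ⟨h' (i z), hxU⟩
  letI : Algebra Γ(X, U) (Z'.presheaf.stalk (i z)) :=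
    ((h'.stalkMap (i z)).hom.comp (X.presheaf.germ U _ hxU).hom).toAlgebra
  letI : Algebra Γ(X, U) (Z.presheaf.stalk z) :=
    ((h'.stalkMap (i z) ≫ i.stalkMap z).hom.comp (X.presheaf.germ U _ hxU).hom).toAlgebra
  haveI : IsScalarTower Γ(X, U) (X.presheaf.stalk (h' (i z))) (Z'.presheaf.stalk (i z)) :=
    IsScalarTower.of_algebraMap_eq fun _ => rfl
  haveI : IsScalarTower Γ(X, U) (X.presheaf.stalk (h' (i z))) (Z.presheaf.stalk z) :=
    IsScalarTower.of_algebraMap_eq fun _ => rfl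
  have hgerm : ∀ r, h'.stalkMap (i z) (X.presheaf.germ U _ hxU r) = Z'.presheaf.germ V' _ hyV (h'.appLE U V' e r) := by
    intro r
    rw [Scheme.Hom.germ_stalkMap_apply, Scheme.Hom.appLE]
    exact (Z'.presheaf.germ_res_apply _ _ _ _).symm
  have hgerm' : ∀ w, i.stalkMap z (Z'.presheaf.germ V' _ hyV w) = Z.presheaf.germ (i ⁻¹ᵁ V') z hyV (i.app V' w) :=
    fun w => Scheme.Hom.germ_stalkMap_apply i V' z hyV w
  haveI : IsScalarTower Γ(X, U) Γ(Z', V') (Z'.presheaf.stalk (i z)) :=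
    IsScalarTower.of_algebraMap_eq fun r => hgerm r
  haveI : IsScalarTower Γ(X, U) Γ(Z, i ⁻¹ᵁ V') (Z.presheaf.stalk z) :=
    IsScalarTower.of_algebraMap_eq fun r => by
      show i.stalkMap z (h'.stalkMap (i z) (X.presheaf.germ U _ hxU r)) = _
      rw [hgerm, hgerm']
      rfl
  let πS : Z'.presheaf.stalk (i z) →ₐ[X.presheaf.stalk (h' (i z))] Z.presheaf.stalk z :=
    ⟨(i.stalkMap z).hom, fun _ => rfl⟩
  refine isUniv_base (hU.primeIdealOf ⟨h' (i z), hxU⟩).asIdeal.primeCompl _ _ _ πS ?_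
  refine isUniv_localization _ hu0 (hV'.primeIdealOf ⟨i z, hyV⟩).asIdeal.primeCompl
    (N₀ := (hV.primeIdealOf ⟨z, hyV⟩).asIdeal.primeCompl) ?_ _ _ _ hgerm'
  refine map_primeCompl_of_surjective (i.app V').hom (i.app_surjective V' hV') _ _ ?_
  have h1 := IsAffineOpen.comap_primeIdealOf_appLE (f := i) (x := z) V' hV' (i ⁻¹ᵁ V') hV le_rfl hyV
  rw [← Scheme.Hom.app_eq_appLE] at h1
  exact congr($(h1).asIdeal)

open Synt29.OmegaStalk Groth.Agent.KFlatLib

theorem isIso_pullback_map {S : Scheme.{u}} (q : X ⟶ S) (hu : OmegaSh.IsUnivThickening h i h')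
    {ΩX : X.Modules} {dX : OmegaSh.Der q ΩX} (hdX : OmegaSh.IsUniversal dX)
    {ΩZ' : Z'.Modules} {dZ' : OmegaSh.Der (h' ≫ q) ΩZ'} (hdZ' : OmegaSh.IsUniversal dZ')
    (c : (Scheme.Modules.pullback h').obj ΩX ⟶ ΩZ') (hc : OmegaSh.IsDiffCompat h' dX dZ' c) :
    IsIso ((Scheme.Modules.pullback i).map c) := by
  refine isIso_of_stalk _ fun z => ?_
  have hnat := (stalkPullbackIso i z).hom.naturality c
  suffices H : IsIso ((ModuleCat.extendScalars (i.stalkMap z).hom).map ((DerSch.stalkFunctor Z' (i z)).map c)) by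
    have e1 : (DerSch.stalkFunctor Z z).map ((Scheme.Modules.pullback i).map c) =
        (stalkPullbackIso i z).hom.app _ ≫ (ModuleCat.extendScalars (i.stalkMap z).hom).map
          ((DerSch.stalkFunctor Z' (i z)).map c) ≫ (stalkPullbackIso i z).inv.app _ := by
      rw [← Category.assoc]
      exact (Iso.eq_comp_inv ((stalkPullbackIso i z).app _)).2 hnat
    rw [e1]
    infer_instance
  obtain ⟨i₁, i₂, hi⟩ := exists_stalk_square hdX hdZ' c hc (i z) (q.stalkMap (h' (i z))) rfl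
    (q.stalkMap (h' (i z)) ≫ h'.stalkMap (i z)) (Scheme.Hom.stalkMap_comp h' q (i z)).symm
  have e2 := hi _ (baseMap_unit _ _)
  suffices H : IsIso ((ModuleCat.extendScalars (i.stalkMap z).hom).map
      (baseMap (q.stalkMap (h' (i z))) (h'.stalkMap (i z)))) by
    rw [(Iso.inv_comp_eq i₁).2 e2.symm |>.symm]
    rw [Functor.map_comp, Functor.map_comp]
    infer_instance
  let φ := q.stalkMap (h' (i z))
  let ψ := h'.stalkMap (i z)
  letI := φ.hom.toAlgebra
  letI := ψ.hom.toAlgebra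
  letI := (φ ≫ ψ).hom.toAlgebra
  letI := (i.stalkMap z).hom.toAlgebra
  letI := (h'.stalkMap (i z) ≫ i.stalkMap z).hom.toAlgebra
  haveI : IsScalarTower (S.presheaf.stalk (q (h' (i z)))) (X.presheaf.stalk (h' (i z))) (Z'.presheaf.stalk (i z)) :=
    IsScalarTower.of_algebraMap_eq fun _ => rfl
  haveI : IsScalarTower (X.presheaf.stalk (h' (i z))) (Z'.presheaf.stalk (i z)) (Z.presheaf.stalk z) :=
    IsScalarTower.of_algebraMap_eq fun _ => rfl
  rw [ConcreteCategory.isIso_iff_bijective]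
  exact bijective_baseChange_mapBaseChange (S.presheaf.stalk (q (h' (i z)))) (X.presheaf.stalk (h' (i z)))
    (Z.presheaf.stalk z) (Z'.presheaf.stalk (i z)) (isUnivRing_stalk hu z)

end Groth.Agent.UnivThick
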