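import Groth.Agent.UnivThick.Stalk
import Groth.Agent.Synt29.ConormalBC

/-!
Transitivity of universal first order thickenings.
-/

set_option autoImplicit false
set_option backward.isDefEq.respectTransparency false
set_option backward.isDefEq.respectTransparency.types false
set_option maxRecDepth 4000

universe u

open CategoryTheory CategoryTheory.Limits AlgebraicGeometry TopologicalSpace Opposite
open scoped TensorProduct

namespace Groth.Agent.UnivThick

/-- The ring statement of transitivity. -/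
theorem transitivity_ring {XA C' C A' A'' B : Type u} [CommRing XA] [CommRing C'] [CommRing C] [CommRing A']
    [CommRing A''] [CommRing B] [Algebra XA A'] [Algebra XA B] [Algebra C A''] [Algebra C B]
    (j : C' →+* C) (hj : Function.Surjective j) (m : C' →+* A') (n : A' →+* A'')
    (π' : A' →ₐ[XA] B) (hu' : OmegaSh.IsUnivThickeningRing XA B A' π')
    (π'' : A'' →ₐ[C] B) (hu'' : OmegaSh.IsUnivThickeningRing C B A'' π'')
    (hn : ∀ a, π'' (n a) = π' a) (hm : ∀ c, n (m c) = algebraMap C A'' (j c))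
    (hbase : ∀ r, ∃ t, m t = algebraMap XA A' r) :
    Function.Surjective n ∧ RingHom.ker n ≤ (RingHom.ker j).map m := by
  have hsurj : Function.Surjective n := by
    let R₀ : Subalgebra C A'' :=
      { n.range.toSubsemiring with
        algebraMap_mem' := fun c => by
          obtain ⟨c', rfl⟩ := hj c
          exact ⟨m c', hm c'⟩ }
    let π₀ : R₀ →ₐ[C] B := π''.comp R₀.val
    have hπ₀ : Function.Surjective π₀ := fun b => by
      obtain ⟨a, rfl⟩ := hu'.1 b
      exact ⟨⟨n a, ⟨a, rfl⟩⟩, hn a⟩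
    have hK : RingHom.ker π₀ ^ 2 = ⊥ := by
      rw [eq_bot_iff, pow_two, Ideal.mul_le]
      intro a ha b hb
      have h2 := Ideal.mul_mem_mul (show a.1 ∈ RingHom.ker π''.toRingHom from ha)
        (show b.1 ∈ RingHom.ker π''.toRingHom from hb)
      rw [← pow_two, hu''.2.1, Ideal.mem_bot] at h2
      rw [Ideal.mem_bot]
      exact Subtype.ext h2
    let e := Ideal.quotientKerAlgEquivOfSurjective hπ₀
    obtain ⟨l, hl, -⟩ := hu''.2.2 R₀ (RingHom.ker π₀) hK e.symm.toAlgHom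
    have hl' : ∀ b, π'' (l b).1 = π'' b := fun b =>
      (congrArg e (DFunLike.congr_fun hl b)).trans (e.apply_symm_apply (π'' b))
    obtain ⟨c, -, hc⟩ := hu''.2.2 A'' (RingHom.ker π''.toRingHom) hu''.2.1
      (Ideal.quotientKerAlgEquivOfSurjective (f := π'') hu''.1).symm.toAlgHom
    have hh : ∀ ψ : A'' →ₐ[C] A'', (∀ b, π'' (ψ b) = π'' b) → ψ = c := fun ψ hψ => hc ψ (AlgHom.ext fun b =>
      (Ideal.quotientKerAlgEquivOfSurjective (f := π'') hu''.1).injective
        ((hψ b).trans ((Ideal.quotientKerAlgEquivOfSurjective (f := π'') hu''.1).apply_symm_apply (π'' b)).symm))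
    intro a
    have h1 : R₀.val.comp l = AlgHom.id C A'' := by
      rw [hh (R₀.val.comp l) hl', hh (AlgHom.id C A'') fun _ => rfl]
    obtain ⟨a', ha'⟩ := (l a).2
    exact ⟨a', ha'.trans (DFunLike.congr_fun h1 a)⟩
  refine ⟨hsurj, fun a₀ ha₀ => ?_⟩
  let N := (RingHom.ker j).map m
  have hN : N ≤ RingHom.ker π'.toRingHom := Ideal.map_le_iff_le_comap.2 fun r hr => by
    show π' (m r) = 0
    rw [← hn, hm, RingHom.mem_ker.1 hr, map_zero, map_zero]
  let Q := A' ⧸ N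
  let q : Q →+* B := Ideal.Quotient.lift N π'.toRingHom hN
  let mk : A' →+* Q := Ideal.Quotient.mk N
  letI : Algebra C Q := (RingHom.liftOfSurjective j hj
    ⟨mk.comp m, fun r hr => Ideal.Quotient.eq_zero_iff_mem.2 (Ideal.mem_map_of_mem m hr)⟩).toAlgebra
  have hCQ : ∀ c, algebraMap C Q (j c) = mk (m c) := fun c => RingHom.liftOfSurjective_comp_apply j hj _ c
  let qa : Q →ₐ[C] B := { q with
    commutes' := fun c => by
      obtain ⟨c', rfl⟩ := hj c
      show q (algebraMap C Q (j c')) = _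
      rw [hCQ]
      show π' (m c') = _
      rw [← hn, hm, π''.commutes] }
  have hqa : Function.Surjective qa := fun b => by
    obtain ⟨a, rfl⟩ := hu'.1 b
    exact ⟨mk a, rfl⟩
  have hnil : RingHom.ker qa ^ 2 = ⊥ := by
    rw [eq_bot_iff, pow_two, Ideal.mul_le]
    intro u hu v hv
    obtain ⟨u, rfl⟩ := Ideal.Quotient.mk_surjective u
    obtain ⟨v, rfl⟩ := Ideal.Quotient.mk_surjective v
    have h2 := Ideal.mul_mem_mul (show u ∈ RingHom.ker π'.toRingHom from hu)
      (show v ∈ RingHom.ker π'.toRingHom from hv)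
    rw [← pow_two, hu'.2.1, Ideal.mem_bot] at h2
    rw [Ideal.mem_bot, ← map_mul, h2, map_zero]
  obtain ⟨l, hl, -⟩ := hu''.2.2 Q (RingHom.ker qa) hnil (Ideal.quotientKerAlgEquivOfSurjective hqa).symm.toAlgHom
  have hl' : ∀ b, q (l b) = π'' b := fun b =>
    (congrArg (Ideal.quotientKerAlgEquivOfSurjective hqa) (DFunLike.congr_fun hl b)).trans
      ((Ideal.quotientKerAlgEquivOfSurjective hqa).apply_symm_apply (π'' b))
  letI : Algebra XA Q := (mk.comp (algebraMap XA A')).toAlgebra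
  let g₁ : A' →ₐ[XA] Q := { mk with commutes' := fun _ => rfl }
  let g₂ : A' →ₐ[XA] Q := { l.toRingHom.comp n with
    commutes' := fun r => by
      obtain ⟨t, ht⟩ := hbase r
      show l (n (algebraMap XA A' r)) = mk (algebraMap XA A' r)
      rw [← ht, hm, l.commutes, hCQ] }
  let I : Ideal Q := RingHom.ker q
  have hI : I ^ 2 = ⊥ := hnil
  obtain ⟨g, -, hg⟩ := hu'.2.2 Q I hI
    ({ (RingHom.liftOfSurjective π'.toRingHom hu'.1
        ⟨(Ideal.Quotient.mk I).comp mk, fun r hr => Ideal.Quotient.eq_zero_iff_mem.2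
          (show q (mk r) = 0 from hr)⟩) with
        commutes' := fun r => by
          show RingHom.liftOfSurjective _ _ _ (algebraMap XA B r) = _
          rw [← π'.commutes]
          exact RingHom.liftOfSurjective_comp_apply π'.toRingHom hu'.1 _ _ } : B →ₐ[XA] Q ⧸ I)
  have e1 : g₁ = g := hg g₁ (AlgHom.ext fun a => by
    exact (RingHom.liftOfSurjective_comp_apply π'.toRingHom hu'.1
      ⟨(Ideal.Quotient.mk I).comp mk, fun r hr => Ideal.Quotient.eq_zero_iff_mem.2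
          (show q (mk r) = 0 from hr)⟩ a).symm)
  have e2 : g₂ = g := hg g₂ (AlgHom.ext fun a => by
    refine Eq.trans ?_ (RingHom.liftOfSurjective_comp_apply π'.toRingHom hu'.1
      ⟨(Ideal.Quotient.mk I).comp mk, fun r hr => Ideal.Quotient.eq_zero_iff_mem.2
          (show q (mk r) = 0 from hr)⟩ a).symm
    show Ideal.Quotient.mk I (l (n a)) = Ideal.Quotient.mk I (mk a)
    rw [Ideal.Quotient.eq, RingHom.mem_ker, map_sub, hl', hn]
    exact sub_self _)
  refine Ideal.Quotient.eq_zero_iff_mem.1 ?_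
  show g₁ a₀ = 0
  rw [e1, ← e2]
  show l (n a₀) = 0
  rw [RingHom.mem_ker.1 ha₀, map_zero]

/-- The map of local rings at specified points. -/
noncomputable def tr {P Q : Scheme.{u}} (f : P ⟶ Q) (p : P) (q : Q) (h : f p = q) :
    Q.presheaf.stalk q ⟶ P.presheaf.stalk p :=
  Q.presheaf.stalkSpecializes (specializes_of_eq h) ≫ f.stalkMap p

theorem tr_rfl {P Q : Scheme.{u}} (f : P ⟶ Q) (p : P) : tr f p (f p) rfl = f.stalkMap p := by
  simp [tr]

theorem tr_comp {P Q R : Scheme.{u}} (f : P ⟶ Q) (g : Q ⟶ R) (p : P) (q : Q) (r : R) (h : f p = q) (h' : g q = r)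
    (a : R.presheaf.stalk r) :
    tr f p q h (tr g q r h' a) = tr (f ≫ g) p r (by rw [Scheme.Hom.comp_apply, h, h']) a := by
  subst h h'
  rw [tr_rfl, tr_rfl]
  erw [tr_rfl (f ≫ g) p]
  exact congr($(Scheme.Hom.stalkMap_comp f g p) a).symm

theorem tr_congr {P Q : Scheme.{u}} {f f' : P ⟶ Q} (e : f = f') (p : P) (q : Q) (h : f p = q) :
    tr f p q h = tr f' p q (e ▸ h) := by
  subst e
  rfl

theorem tr_surjective {P Q : Scheme.{u}} (f : P ⟶ Q) [IsClosedImmersion f] (p : P) (q : Q) (h : f p = q) :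
    Function.Surjective (tr f p q h) := by
  subst h
  rw [tr_rfl]
  exact f.stalkMap_surjective p

theorem isUnivRing_tr {Z X Z' : Scheme.{u}} {h : Z ⟶ X} {i : Z ⟶ Z'} {h' : Z' ⟶ X}
    (hu : OmegaSh.IsUnivThickening h i h') (z : Z) (p : X) (e : h' (i z) = p) :
    letI := (tr h' (i z) p e).hom.toAlgebra
    letI := (tr h' (i z) p e ≫ i.stalkMap z).hom.toAlgebra
    OmegaSh.IsUnivThickeningRing (X.presheaf.stalk p) (Z.presheaf.stalk z) (Z'.presheaf.stalk (i z))
      ⟨(i.stalkMap z).hom, fun _ => rfl⟩ := by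
  subst e
  rw [tr_rfl]
  exact isUnivRing_stalk hu z

section Conormal

open Synt29.OmegaStalk Synt29.ConormalStalk Synt29.ConormalExact Synt29.ConormalSeq Synt29.ConormalBC
open Groth.Agent.KFlatLib

variable {Z : Scheme.{u}}

/-- An element of a stalk, pulled back along the identity. -/
noncomputable def up (M : Z.Modules) (x : Z) (v : St M x) : St ((Scheme.Modules.pullback (𝟙 Z)).obj M) x :=
  ((stalkPullbackIso (𝟙 Z) x).app M).inv
    (((ModuleCat.extendRestrictScalarsAdj ((𝟙 Z : Z ⟶ Z).stalkMap x).hom).unit.app _).hom v)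

theorem map_up {M N : Z.Modules} (ψ : M ⟶ N) (x : Z) (v : St M x) :
    (DerSch.stalkFunctor Z x).map ((Scheme.Modules.pullback (𝟙 Z)).map ψ) (up M x v) =
      up N x ((DerSch.stalkFunctor Z x).map ψ v) := by
  have h1 := congr($((stalkPullbackIso (𝟙 Z) x).inv.naturality ψ)
    (((ModuleCat.extendRestrictScalarsAdj ((𝟙 Z : Z ⟶ Z).stalkMap x).hom).unit.app _).hom v))
  have h2 := congr($((ModuleCat.extendRestrictScalarsAdj ((𝟙 Z : Z ⟶ Z).stalkMap x).hom).unit.naturality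
    ((DerSch.stalkFunctor Z x).map ψ)) v)
  exact h1.symm.trans (congrArg (fun t => ((stalkPullbackIso (𝟙 Z) x).app N).inv t) h2.symm)

theorem up_surjective (M : Z.Modules) (x : Z) : Function.Surjective (up M x) := fun w => by
  obtain ⟨v, hv⟩ := exists_unit (𝟙 Z) x (Scheme.Hom.stalkMap_surjective (𝟙 Z) x) M w
  refine ⟨v, ?_⟩
  show ((stalkPullbackIso (𝟙 Z) x).app M).inv _ = w
  rw [← hv]
  exact Iso.hom_inv_id_apply ((stalkPullbackIso (𝟙 Z) x).app M) w

theorem up_add (M : Z.Modules) (x : Z) (v v' : St M x) : up M x (v + v') = up M x v + up M x v' :=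
  (congrArg ((stalkPullbackIso (𝟙 Z) x).app M).inv
    (map_add ((ModuleCat.extendRestrictScalarsAdj ((𝟙 Z : Z ⟶ Z).stalkMap x).hom).unit.app _).hom v v')).trans
    (map_add _ _ _)

theorem up_smul (M : Z.Modules) (x : Z) (r : Z.presheaf.stalk x) (v : St M x) :
    up M x (r • v) = (𝟙 Z : Z ⟶ Z).stalkMap x r • up M x v :=
  (congrArg ((stalkPullbackIso (𝟙 Z) x).app M).inv
    (map_smul ((ModuleCat.extendRestrictScalarsAdj ((𝟙 Z : Z ⟶ Z).stalkMap x).hom).unit.app _).hom r v)).trans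
    (map_smul ((stalkPullbackIso (𝟙 Z) x).app M).inv.hom ((𝟙 Z : Z ⟶ Z).stalkMap x r) _)

theorem δ_eq_tr {Z X Z' X' : Scheme.{u}} (i : Z ⟶ X) (i' : Z' ⟶ X') (g : X ⟶ X') (gZ : Z ⟶ Z')
    (w : gZ ≫ i' = i ≫ g) (x : Z) :
    δ i i' g gZ w x = tr g (i x) (i' (gZ x)) (congr($w x)).symm := rfl

theorem el_eq_up {Z' X' : Scheme.{u}} (i' : Z' ⟶ X') (gZ : Z ⟶ Z') (x : Z) (m : St (I i') (i' (gZ x))) :
    el i' gZ x m = ((stalkPullbackIso gZ x).app (Omega.conormal i')).inv
      (((ModuleCat.extendRestrictScalarsAdj (gZ.stalkMap x).hom).unit.app _).hom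
        (((stalkPullbackIso i' (gZ x)).app (I i')).inv (unit1 i' (gZ x) m))) := rfl

/-- The classes generate the stalk of a pullback of a conormal sheaf. -/
theorem mem_span_el {Z' X' : Scheme.{u}} (i' : Z' ⟶ X') [IsImmersion i'] [QuasiCompact i'] (gZ : Z ⟶ Z') (x : Z)
    (z : St ((Scheme.Modules.pullback gZ).obj (Omega.conormal i')) x) :
    z ∈ Submodule.span (Z.presheaf.stalk x) (Set.range (el i' gZ x)) := by
  let P := (stalkPullbackIso gZ x).app (Omega.conormal i')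
  obtain ⟨t, rfl⟩ := (ConcreteCategory.bijective_of_isIso P.inv).2 z
  let _ := (gZ.stalkMap x).hom.toAlgebra
  change (Z.presheaf.stalk x) ⊗[Z'.presheaf.stalk (gZ x)] (St (Omega.conormal i') (gZ x)) at t
  induction t using TensorProduct.induction_on with
  | zero => exact (map_zero P.inv.hom).symm ▸ zero_mem _
  | add a b ha hb => exact (map_add P.inv.hom a b).symm ▸ add_mem ha hb
  | tmul b m =>
    obtain ⟨m', hm'⟩ := unit1_surjective i' (gZ x) (((stalkPullbackIso i' (gZ x)).app (I i')).hom m)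
    have h1 : el i' gZ x m' =
        P.inv (((ModuleCat.extendRestrictScalarsAdj (gZ.stalkMap x).hom).unit.app _).hom m) := by
      refine (el_eq_up i' gZ x m').trans (congrArg (fun w => P.inv (((ModuleCat.extendRestrictScalarsAdj
        (gZ.stalkMap x).hom).unit.app _).hom w)) ?_)
      rw [hm']
      exact Iso.hom_inv_id_apply ((stalkPullbackIso i' (gZ x)).app (I i')) m
    have h2 : P.inv (b ⊗ₜ[Z'.presheaf.stalk (gZ x)] m) = b • el i' gZ x m' := by
      rw [h1]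
      refine Eq.trans (congrArg P.inv ?_) (map_smul P.inv.hom b _)
      show b ⊗ₜ[Z'.presheaf.stalk (gZ x)] m = (b * 1) ⊗ₜ[Z'.presheaf.stalk (gZ x)] m
      rw [mul_one]
    exact h2 ▸ Submodule.smul_mem _ b (Submodule.subset_span ⟨m', rfl⟩)

variable {Y X Z' Y' Z'' : Scheme.{u}} {i : Z ⟶ Y} {b : Y ⟶ X}
  {i' : Z ⟶ Z'} {c : Z' ⟶ X} (hZ' : OmegaSh.IsUnivThickening (i ≫ b) i' c)
  {j : Y ⟶ Y'} {d : Y' ⟶ X} (hY' : OmegaSh.IsUnivThickening b j d)
  {m : Z' ⟶ Y'} (hm₁ : i' ≫ m = i ≫ j) (hm₂ : m ≫ d = c)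
  {i'' : Z ⟶ Z''} {e : Z'' ⟶ Y} (hZ'' : OmegaSh.IsUnivThickening i i'' e)
  {n : Z'' ⟶ Z'} (hn₁ : i'' ≫ n = i') (hn₂ : n ≫ c = e ≫ b)

include hY' hZ'' hm₁ hm₂ hn₁ hn₂ in
theorem comp_eq : n ≫ m = e ≫ j := by
  have h1 : i'' ≫ n ≫ m = i ≫ j := by rw [← Category.assoc, hn₁, hm₁]
  have h2 : i'' ≫ e ≫ j = i ≫ j := by rw [← Category.assoc, hZ''.2.1]
  have h3 : (n ≫ m) ≫ d = (e ≫ j) ≫ d := by
    rw [Category.assoc, hm₂, hn₂, Category.assoc, hY'.2.1]
  exact univ_hom_ext hY' hZ''.1 _ h1 h2 h3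

include hZ' hY' hm₁ hm₂ hZ'' hn₁ hn₂ in
theorem stalk_facts (x : Z) (wj : i ≫ j = i' ≫ m) (wn : 𝟙 Z ≫ i' = i'' ≫ n) :
    Function.Surjective (δ i'' i' n (𝟙 Z) wn x) ∧
      RingHom.ker (δ i'' i' n (𝟙 Z) wn x).hom ≤
        (RingHom.ker (j.stalkMap (i x)).hom).map (δ i' j m i wj x).hom ∧
      ∀ r, j.stalkMap (i x) r = 0 → δ i'' i' n (𝟙 Z) wn x (δ i' j m i wj x r) = 0 := by
  haveI := hY'.1.1.1
  haveI := hZ'.1.1.1
  haveI := hZ''.1.1.1
  have pe : e (i'' x) = i x := congr($(hZ''.2.1) x)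
  have pc : c (i' x) = b (i x) := congr($(hZ'.2.1) x)
  have pd : d (j (i x)) = b (i x) := congr($(hY'.2.1) (i x))
  have pm : m (i' x) = j (i x) := (congr($wj x)).symm
  have pn : n (i'' x) = i' x := (congr($wn x)).symm
  letI := (tr c (i' x) (b (i x)) pc).hom.toAlgebra
  letI := (tr c (i' x) (b (i x)) pc ≫ i'.stalkMap x).hom.toAlgebra
  letI := (tr e (i'' x) (i x) pe).hom.toAlgebra
  letI := (tr e (i'' x) (i x) pe ≫ i''.stalkMap x).hom.toAlgebra
  have hm : ∀ r, tr n (i'' x) (i' x) pn (tr m (i' x) (j (i x)) pm r) =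
      tr e (i'' x) (i x) pe (j.stalkMap (i x) r) := fun r => by
    rw [tr_comp, ← tr_rfl j (i x), tr_comp, tr_congr (comp_eq hY' hm₁ hm₂ hZ'' hn₁ hn₂)]
  have key := transitivity_ring (j.stalkMap (i x)).hom (j.stalkMap_surjective (i x))
    (tr m (i' x) (j (i x)) pm).hom (tr n (i'' x) (i' x) pn).hom
    ⟨(i'.stalkMap x).hom, fun _ => rfl⟩ (isUnivRing_tr hZ' x (b (i x)) pc)
    ⟨(i''.stalkMap x).hom, fun _ => rfl⟩ (isUnivRing_tr hZ'' x (i x) pe)
    (fun a => by
      show i''.stalkMap x (tr n (i'' x) (i' x) pn a) = i'.stalkMap x a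
      rw [← tr_rfl i'' x, tr_comp, tr_congr hn₁, tr_rfl])
    hm (fun r => ⟨tr d (j (i x)) (b (i x)) pd r, by
      show tr m (i' x) (j (i x)) pm (tr d (j (i x)) (b (i x)) pd r) = tr c (i' x) (b (i x)) pc r
      rw [tr_comp, tr_congr hm₂]⟩)
  exact ⟨key.1, key.2, fun r hr => (hm r).trans (by rw [hr, map_zero])⟩

variable (ψ₁ : (Scheme.Modules.pullback i).obj (Omega.conormal j) ⟶ Omega.conormal i')
  (hψ₁ : OmegaSh.IsConormalMap i' j m i ψ₁)
  (ψ₂ : (Scheme.Modules.pullback (𝟙 Z)).obj (Omega.conormal i') ⟶ Omega.conormal i'')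
  (hψ₂ : OmegaSh.IsConormalMap i'' i' n (𝟙 Z) ψ₂)

include hψ₁ hψ₂ hZ' hY' hm₁ hm₂ hZ'' hn₁ hn₂ in
/-- Transitivity on conormal sheaves. -/
theorem exact_and_epi : ∃ w : (Scheme.Modules.pullback (𝟙 Z)).map ψ₁ ≫ ψ₂ = 0,
    (ShortComplex.mk _ _ w).Exact ∧ Epi ψ₂ := by
  haveI := hY'.1.1.1
  haveI := hZ'.1.1.1
  haveI := hZ''.1.1.1
  have F := fun x => stalk_facts hZ' hY' hm₁ hm₂ hZ'' hn₁ hn₂ x hψ₁.1 hψ₂.1
  have h1 : ∀ (x : Z) (mm : St (I j) (j (i x))) (r : Y'.presheaf.stalk (j (i x))), Rep j (j (i x)) mm r →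
      ∃ n₁, Rep i' (i' x) n₁ (δ i' j m i hψ₁.1 x r) ∧
        (DerSch.stalkFunctor Z x).map ψ₁ (el j i x mm) =
          ((stalkPullbackIso i' x).app (I i')).inv (unit1 i' x n₁) := by
    intro x mm r h
    obtain ⟨n₁, hn, he⟩ := map_el i' j m i hψ₁.1 x ψ₁ hψ₁ mm r h
    refine ⟨n₁, hn, ?_⟩
    rw [← he]
    exact (Iso.hom_inv_id_apply ((stalkPullbackIso i' x).app (I i')) _).symm
  have h2 : ∀ (x : Z) (n₁ : St (I i') (i' x)) (a : Z'.presheaf.stalk (i' x)), Rep i' (i' x) n₁ a →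
      ∃ n₂, Rep i'' (i'' x) n₂ (δ i'' i' n (𝟙 Z) hψ₂.1 x a) ∧
        ((stalkPullbackIso i'' x).app (I i'')).hom ((DerSch.stalkFunctor Z x).map ψ₂
          (up (Omega.conormal i') x (((stalkPullbackIso i' x).app (I i')).inv (unit1 i' x n₁)))) =
            unit1 i'' x n₂ :=
    fun x n₁ a h => map_el i'' i' n (𝟙 Z) hψ₂.1 x ψ₂ hψ₂ n₁ a h
  have hcomp : (Scheme.Modules.pullback (𝟙 Z)).map ψ₁ ≫ ψ₂ = 0 := by
    refine hom_ext_stalk _ _ fun x z => ?_
    obtain ⟨v, rfl⟩ := up_surjective _ x z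
    rw [Functor.map_comp, ModuleCat.comp_apply, map_up, Functor.map_zero]
    show _ = (0 : St _ x)
    have hv := mem_span_el j i x v
    induction hv using Submodule.span_induction with
    | mem v hv =>
      obtain ⟨mm, rfl⟩ := hv
      obtain ⟨r, hr⟩ := rep_exists j (j (i x)) mm
      obtain ⟨n₁, hn₁', he₁⟩ := h1 x mm r hr
      obtain ⟨n₂, hn₂', he₂⟩ := h2 x n₁ _ hn₁'
      rw [(F x).2.2 r (rep_mem j hr)] at hn₂'
      rw [rep_inj i'' hn₂' (rep_zero i'' _)] at he₂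
      refine (ConcreteCategory.bijective_of_isIso ((stalkPullbackIso i'' x).app (I i'')).hom).1 ?_
      rw [he₁, he₂]
      exact (map_zero _).trans (map_zero _).symm
    | zero =>
      rw [map_zero]
      have : up (Omega.conormal i') x 0 = 0 := (congrArg _ (map_zero _)).trans (map_zero _)
      rw [this, map_zero]
    | add a a' _ _ e e' => rw [map_add, up_add, map_add, e, e', add_zero]
    | smul r a _ e => rw [map_smul, up_smul, map_smul, e, smul_zero]
  refine ⟨hcomp, ?_, ?_⟩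
  · rw [exact_iff_stalk]
    intro x
    rw [ShortComplex.moduleCat_exact_iff]
    intro z hz
    obtain ⟨v, rfl⟩ := up_surjective _ x z
    obtain ⟨n₁, hn⟩ := unit1_surjective i' x (((stalkPullbackIso i' x).app (I i')).hom v)
    have hv : ((stalkPullbackIso i' x).app (I i')).inv (unit1 i' x n₁) = v := by
      rw [hn]
      exact Iso.hom_inv_id_apply ((stalkPullbackIso i' x).app (I i')) v
    obtain ⟨a, ha⟩ := rep_exists i' (i' x) n₁
    obtain ⟨n₂, hn₂', he₂⟩ := h2 x n₁ a ha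
    rw [hv] at he₂
    have h0 : unit1 i'' x n₂ = 0 :=
      he₂.symm.trans ((congrArg ((stalkPullbackIso i'' x).app (I i'')).hom hz).trans (map_zero _))
    have hsq : δ i'' i' n (𝟙 Z) hψ₂.1 x a = 0 := by
      have h3 := mem_sq_of_unit1_eq_zero i'' (i''.stalkMap_surjective x) hn₂' h0
      letI := (e.stalkMap (i'' x)).hom.toAlgebra
      letI := (e.stalkMap (i'' x) ≫ i''.stalkMap x).hom.toAlgebra
      exact (Ideal.mem_bot).1 ((isUnivRing_stalk hZ'' x).2.1.le h3)
    suffices H : ∀ a' ∈ (RingHom.ker (j.stalkMap (i x)).hom).map (δ i' j m i hψ₁.1 x).hom,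
        ∃ n₁', Rep i' (i' x) n₁' a' ∧ ∃ w, (DerSch.stalkFunctor Z x).map ψ₁ w =
          ((stalkPullbackIso i' x).app (I i')).inv (unit1 i' x n₁') by
      obtain ⟨n₁', hn', w, hw⟩ := H a ((F x).2.1 (RingHom.mem_ker.2 hsq))
      rw [rep_inj i' hn' ha, hv] at hw
      exact ⟨up _ x w, (map_up ψ₁ x w).trans (congrArg _ hw)⟩
    intro a' ha'
    let Pi := ((stalkPullbackIso i' x).app (I i')).inv
    induction ha' using Submodule.span_induction with
    | mem a' ha' =>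
      obtain ⟨r, hr, rfl⟩ := ha'
      obtain ⟨mm, hmm⟩ := exists_rep j (RingHom.mem_ker.1 hr)
      obtain ⟨n₁', hn', he⟩ := h1 x mm r hmm
      exact ⟨n₁', hn', _, he⟩
    | zero =>
      exact ⟨0, rep_zero i' _, 0, (map_zero _).trans
        ((congrArg Pi (map_zero _)).trans (map_zero Pi.hom)).symm⟩
    | add p q _ _ ep eq =>
      obtain ⟨k, hk, w, hw⟩ := ep
      obtain ⟨k', hk', w', hw'⟩ := eq
      exact ⟨k + k', rep_add i' hk hk', w + w', (map_add _ w w').trans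
        ((congrArg₂ (· + ·) hw hw').trans
          ((map_add Pi.hom _ _).symm.trans (congrArg Pi (map_add _ k k').symm)))⟩
    | smul t p _ ep =>
      obtain ⟨k, hk, w, hw⟩ := ep
      refine ⟨t • k, rep_smul i' hk t, i'.stalkMap x t • w, (map_smul _ _ w).trans ?_⟩
      rw [hw]
      exact (map_smul Pi.hom _ _).symm.trans (congrArg Pi (unit1_smul i' x t k).symm)
  · rw [epi_iff_stalk]
    intro x z
    obtain ⟨U, hx, k, rfl⟩ := exists_conormalSect i'' x z
    have hrep : Rep i'' (i'' x) (gm (I i'') hx k)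
        (Z''.presheaf.germ U (i'' x) hx (OmegaSh.idealSect i''.ker U k)) := ⟨U, hx, k, rfl, rfl⟩
    obtain ⟨a, ha⟩ := (F x).1 (Z''.presheaf.germ U (i'' x) hx (OmegaSh.idealSect i''.ker U k))
    have ha0 : i'.stalkMap x a = 0 := by
      have h3 := stalkMap_δ i'' i' n (𝟙 Z) hψ₂.1 x a
      rw [ha, rep_mem i'' hrep] at h3
      exact (ConcreteCategory.bijective_of_isIso ((𝟙 Z : Z ⟶ Z).stalkMap x)).1 (h3.symm.trans (map_zero _).symm)
    obtain ⟨n₁, hn⟩ := exists_rep i' ha0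
    obtain ⟨n₂, hn₂', he₂⟩ := h2 x n₁ a hn
    rw [ha] at hn₂'
    rw [rep_inj i'' hn₂' hrep] at he₂
    exact ⟨_, (ConcreteCategory.bijective_of_isIso ((stalkPullbackIso i'' x).app (I i'')).hom).1
      (he₂.trans (stalkPullbackIso_gm i'' (I i'') x hx k).symm)⟩

end Conormal

end Groth.Agent.UnivThick
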