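import Groth.Agent.UnivThick.LciModel
import Groth.Agent.UnivThick.Transitivity

/-!
Injectivity in the transitivity sequence for a local complete intersection.
-/

set_option autoImplicit false
set_option backward.isDefEq.respectTransparency false
set_option backward.isDefEq.respectTransparency.types false
set_option maxRecDepth 4000

universe u

open CategoryTheory CategoryTheory.Limits AlgebraicGeometry TopologicalSpace Opposite
open scoped TensorProduct

namespace Groth.Agent.UnivThick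

/-- Lifts out of a universal thickening are determined modulo a square-zero ideal. -/
theorem univ_ring_hom_ext {A B B' T : Type u} [CommRing A] [CommRing B] [CommRing B'] [CommRing T] [Algebra A B]
    [Algebra A B'] [Algebra A T] {π : B' →ₐ[A] B} (hu : OmegaSh.IsUnivThickeningRing A B B' π) (I : Ideal T)
    (hI : I ^ 2 = ⊥) (g₁ g₂ : B' →ₐ[A] T) (hk : ∀ x, π x = 0 → g₁ x ∈ I) (hg : ∀ x, g₁ x - g₂ x ∈ I) : g₁ = g₂ := by
  let a : B →ₐ[A] T ⧸ I :=
    { (RingHom.liftOfSurjective π.toRingHom hu.1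
        ⟨(Ideal.Quotient.mk I).comp g₁.toRingHom, fun r hr => Ideal.Quotient.eq_zero_iff_mem.2 (hk r hr)⟩) with
      commutes' := fun r => by
        show RingHom.liftOfSurjective _ _ _ (algebraMap A B r) = _
        rw [← π.commutes]
        refine (RingHom.liftOfSurjective_comp_apply π.toRingHom hu.1 _ (algebraMap A B' r)).trans ?_
        exact congrArg _ (g₁.commutes r) }
  have ha : ∀ x, a (π x) = Ideal.Quotient.mk I (g₁ x) := fun x =>
    RingHom.liftOfSurjective_comp_apply π.toRingHom hu.1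
      ⟨(Ideal.Quotient.mk I).comp g₁.toRingHom, fun r hr => Ideal.Quotient.eq_zero_iff_mem.2 (hk r hr)⟩ x
  obtain ⟨g, -, hu'⟩ := hu.2.2 T I hI a
  rw [hu' g₁ (AlgHom.ext fun x => (ha x).symm), hu' g₂ (AlgHom.ext fun x => by
    refine Eq.trans ?_ (ha x).symm
    exact (Ideal.Quotient.eq.2 (hg x)).symm)]

open Synt29.OmegaStalk Synt29.ConormalStalk Synt29.ConormalExact Synt29.ConormalSeq Synt29.ConormalBC
open Groth.Agent.KFlatLib

variable {Z Y X Z' Y' : Scheme.{u}} {i : Z ⟶ Y} {b : Y ⟶ X}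
  {i' : Z ⟶ Z'} {c : Z' ⟶ X} (hZ' : OmegaSh.IsUnivThickening (i ≫ b) i' c)
  {j : Y ⟶ Y'} {d : Y' ⟶ X} (hY' : OmegaSh.IsUnivThickening b j d)
  {m : Z' ⟶ Y'} (hm₂ : m ≫ d = c)
  (ψ₁ : (Scheme.Modules.pullback i).obj (Omega.conormal j) ⟶ Omega.conormal i')
  (hψ₁ : OmegaSh.IsConormalMap i' j m i ψ₁)

include hZ' hY' hm₂ hψ₁ in
theorem mono_of_lci (hlci : ∀ z : Z, Synt.IsKoszulAt i z) : Mono ψ₁ := by
  haveI := hY'.1.1.1
  haveI := hZ'.1.1.1
  rw [mono_iff_stalk]
  intro z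
  refine (injective_iff_map_eq_zero _).2 fun w hw => ?_
  obtain ⟨U', hU', hyU', -⟩ := exists_isAffineOpen_mem_and_subset (x := j (i z)) (U := (⊤ : Y'.Opens)) (by simp)
  have hU : IsAffineOpen (j ⁻¹ᵁ U') := hU'.preimage j
  obtain ⟨V, hV, hzV, hVU⟩ := exists_isAffineOpen_mem_and_subset (x := z) (U := i ⁻¹ᵁ j ⁻¹ᵁ U') hyU'
  replace hVU : V ≤ i ⁻¹ᵁ j ⁻¹ᵁ U' := hVU
  letI : Algebra Γ(Y', U') Γ(Y, j ⁻¹ᵁ U') := (j.app U').hom.toAlgebra
  letI : Algebra Γ(Y, j ⁻¹ᵁ U') Γ(Z, V) := (i.appLE (j ⁻¹ᵁ U') V hVU).hom.toAlgebra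
  letI : Algebra Γ(Y', U') Γ(Z, V) := (j.app U' ≫ i.appLE (j ⁻¹ᵁ U') V hVU).hom.toAlgebra
  haveI : IsScalarTower Γ(Y', U') Γ(Y, j ⁻¹ᵁ U') Γ(Z, V) := IsScalarTower.of_algebraMap_eq fun _ => rfl
  letI : Algebra Γ(Z, V) (Z.presheaf.stalk z) := (Z.presheaf.germ V z hzV).hom.toAlgebra
  letI : Algebra Γ(Y', U') (Z.presheaf.stalk z) :=
    ((i.stalkMap z).hom.comp ((j.stalkMap (i z)).hom.comp (Y'.presheaf.germ U' _ hyU').hom)).toAlgebra
  haveI : IsScalarTower Γ(Y', U') Γ(Z, V) (Z.presheaf.stalk z) := IsScalarTower.of_algebraMap_eq fun r => by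
    show i.stalkMap z (j.stalkMap (i z) (Y'.presheaf.germ U' _ hyU' r)) =
      Z.presheaf.germ V z hzV (Z.presheaf.map (homOfLE hVU).op (i.app _ (j.app U' r)))
    rw [Scheme.Hom.germ_stalkMap_apply, Scheme.Hom.germ_stalkMap_apply]
    exact (Z.presheaf.germ_res_apply _ _ _ _).symm
  haveI : IsLocalization.AtPrime (Z.presheaf.stalk z) (hV.primeIdealOf ⟨z, hzV⟩).asIdeal :=
    hV.isLocalization_stalk ⟨z, hzV⟩
  have hlci' : LCI.IsLCI Γ(Y, j ⁻¹ᵁ U') Γ(Z, V) :=
    (KRegLib.isLCI'_iff i).1 ((KRegLib.forall_isKoszulAt_iff i).1 hlci) V (j ⁻¹ᵁ U') hV hU hVU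
  obtain ⟨P, _, _, _, _, φ, P₀, _, π, n, f, hφ, hπ, hπk, hker, hf⟩ :=
    exists_model (C' := Γ(Y', U')) (Bq := Z.presheaf.stalk z) (j.app_surjective U' hU') hlci'
      (hV.primeIdealOf ⟨z, hzV⟩).asIdeal
  let N : Ideal Γ(Y', U') := RingHom.ker (algebraMap Γ(Y', U') Γ(Y, j ⁻¹ᵁ U'))
  have hN : N * N = ⊥ := by
    have h2 := congr(($(hY'.1.2)).ideal ⟨U', hU'⟩)
    simp only [Scheme.IdealSheafData.ideal_mul, Pi.mul_apply, Scheme.Hom.ker_apply,
      Scheme.IdealSheafData.ideal_bot, Pi.bot_apply] at h2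
    exact h2
  -- the map of the local ring of the thickening into the model
  haveI : Nontrivial (Z.presheaf.stalk z) := inferInstance
  haveI : IsLocalHom φ.toRingHom := IsLocalHom.of_surjective _ hφ
  letI : Algebra Γ(Y', U') (Y'.presheaf.stalk (j (i z))) := (Y'.presheaf.germ U' _ hyU').hom.toAlgebra
  haveI : IsLocalization.AtPrime (Y'.presheaf.stalk (j (i z))) (hU'.primeIdealOf ⟨j (i z), hyU'⟩).asIdeal :=
    hU'.isLocalization_stalk ⟨j (i z), hyU'⟩
  have hunit : ∀ s : (hU'.primeIdealOf ⟨j (i z), hyU'⟩).asIdeal.primeCompl, IsUnit (algebraMap Γ(Y', U') P s) := by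
    intro s
    refine isUnit_of_map_unit φ.toRingHom _ ?_
    show IsUnit (φ (algebraMap Γ(Y', U') P s))
    rw [φ.commutes]
    exact ((IsLocalization.map_units (Y'.presheaf.stalk (j (i z))) s).map (j.stalkMap (i z)).hom).map (i.stalkMap z).hom
  let L : Y'.presheaf.stalk (j (i z)) →+* P := IsLocalization.lift hunit
  have hL : ∀ r, L (Y'.presheaf.germ U' _ hyU' r) = algebraMap Γ(Y', U') P r := fun r => IsLocalization.lift_eq hunit r
  have hφL : ∀ t, φ (L t) = i.stalkMap z (j.stalkMap (i z) t) := by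
    intro t
    refine congr($(IsLocalization.ringHom_ext (hU'.primeIdealOf ⟨j (i z), hyU'⟩).asIdeal.primeCompl
      (j := φ.toRingHom.comp L) (k := (i.stalkMap z).hom.comp (j.stalkMap (i z)).hom) (RingHom.ext fun r => ?_)) t)
    show φ (L (Y'.presheaf.germ U' _ hyU' r)) = _
    rw [hL, φ.commutes]
    rfl
  let J : Ideal P := RingHom.ker φ.toRingHom
  let Q := P ⧸ J ^ 2
  let mk : P →+* Q := Ideal.Quotient.mk (J ^ 2)
  let q : Q →+* Z.presheaf.stalk z := Ideal.Quotient.lift (J ^ 2) φ.toRingHom fun a ha => Ideal.pow_le_self two_ne_zero ha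
  let I₀ : Ideal Q := RingHom.ker q
  have hI₀ : I₀ ^ 2 = ⊥ := by
    refine le_bot_iff.1 ((sq I₀).le.trans (Ideal.mul_le.2 fun u hu v hv => ?_))
    obtain ⟨u, rfl⟩ := Ideal.Quotient.mk_surjective u
    obtain ⟨v, rfl⟩ := Ideal.Quotient.mk_surjective v
    rw [Ideal.mem_bot, ← map_mul, Ideal.Quotient.eq_zero_iff_mem, pow_two]
    exact Ideal.mul_mem_mul hu hv
  have pc : c (i' z) = b (i z) := congr($(hZ'.2.1) z)
  have pd : d (j (i z)) = b (i z) := congr($(hY'.2.1) (i z))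
  have wm : i ≫ j = i' ≫ m := hψ₁.1
  have pm : m (i' z) = j (i z) := (congr($wm z)).symm
  letI := (tr c (i' z) (b (i z)) pc).hom.toAlgebra
  letI := (tr c (i' z) (b (i z)) pc ≫ i'.stalkMap z).hom.toAlgebra
  letI := (tr d (j (i z)) (b (i z)) pd).hom.toAlgebra
  letI := (tr d (j (i z)) (b (i z)) pd ≫ j.stalkMap (i z)).hom.toAlgebra
  letI : Algebra (X.presheaf.stalk (b (i z))) Q := ((mk.comp L).comp (tr d (j (i z)) (b (i z)) pd).hom).toAlgebra
  let qa : Q →ₐ[X.presheaf.stalk (b (i z))] Z.presheaf.stalk z :=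
    { q with
      commutes' := fun r => by
        show φ (L (tr d (j (i z)) (b (i z)) pd r)) = i'.stalkMap z (tr c (i' z) (b (i z)) pc r)
        rw [hφL, ← tr_rfl j (i z), tr_comp, tr_congr hY'.2.1, ← tr_rfl i z, tr_comp, ← tr_rfl i' z, tr_comp,
          tr_congr hZ'.2.1] }
  have hqa : Function.Surjective qa := fun v => by
    obtain ⟨p, rfl⟩ := hφ v
    exact ⟨mk p, rfl⟩
  have huZ := isUnivRing_tr hZ' z (b (i z)) pc
  obtain ⟨β, hβ, -⟩ := huZ.2.2 Q I₀ hI₀ (Ideal.quotientKerAlgEquivOfSurjective hqa).symm.toAlgHom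
  have hqβ : ∀ a, q (β a) = i'.stalkMap z a := fun a =>
    (congrArg (Ideal.quotientKerAlgEquivOfSurjective hqa) (DFunLike.congr_fun hβ a)).trans
      ((Ideal.quotientKerAlgEquivOfSurjective hqa).apply_symm_apply (i'.stalkMap z a))
  let δm := δ i' j m i wm z
  have hβδ : ∀ t, β (δm t) = mk (L t) := by
    let g₁ : Y'.presheaf.stalk (j (i z)) →ₐ[X.presheaf.stalk (b (i z))] Q := { mk.comp L with commutes' := fun _ => rfl }
    let g₂ : Y'.presheaf.stalk (j (i z)) →ₐ[X.presheaf.stalk (b (i z))] Q :=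
      { β.toRingHom.comp δm.hom with
        commutes' := fun r => by
          show β (δm (tr d (j (i z)) (b (i z)) pd r)) = _
          rw [show δm = tr m (i' z) (j (i z)) pm from rfl, tr_comp, tr_congr hm₂]
          exact β.commutes r }
    have := univ_ring_hom_ext (isUnivRing_tr hY' (i z) (b (i z)) pd) I₀ hI₀ g₁ g₂
      (fun t ht => by
        show φ (L t) = 0
        rw [hφL, show j.stalkMap (i z) t = 0 from ht, map_zero])
      (fun t => by
        show q (mk (L t) - β (δm t)) = 0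
        rw [map_sub, hqβ, show i'.stalkMap z (δm t) = i.stalkMap z (j.stalkMap (i z) t) from
          stalkMap_δ i' j m i wm z t, show q (mk (L t)) = φ (L t) from rfl, hφL, sub_self])
    exact fun t => (DFunLike.congr_fun this t).symm
  -- sections of the ideal
  choose k hk using fun t : N => OmegaUniv.exists_idealSect_of_app_eq_zero j U' t.1 t.2
  let mm : N → St (I j) (j (i z)) := fun t => gm (I j) hyU' (k t)
  have hmm : ∀ t : N, Rep j (j (i z)) (mm t) (Y'.presheaf.germ U' _ hyU' t.1) := fun t =>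
    ⟨U', hyU', k t, rfl, by rw [hk]⟩
  let el' : N →+ St ((Scheme.Modules.pullback i).obj (Omega.conormal j)) z :=
    AddMonoidHom.mk' (fun t => el j i z (mm t)) fun t t' => by
      rw [← el_add]
      refine congrArg _ (rep_inj j (hmm _) ?_)
      rw [show ((t + t' : N) : Γ(Y', U')) = t.1 + t'.1 from rfl, map_add]
      exact rep_add j (hmm t) (hmm t')
  have hels : ∀ (r : Γ(Y', U')) (t : N), el' (r • t) = algebraMap Γ(Y', U') (Z.presheaf.stalk z) r • el' t := by
    intro r t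
    refine Eq.trans (congrArg (el j i z) (rep_inj j (hmm _) ?_)) (el_smul j i z (Y'.presheaf.germ U' _ hyU' r) (mm t))
    rw [show ((r • t : N) : Γ(Y', U')) = r * t.1 from rfl, map_mul]
    exact rep_smul j (hmm t) _
  let F : Z.presheaf.stalk z →+ N →+ St ((Scheme.Modules.pullback i).obj (Omega.conormal j)) z :=
    AddMonoidHom.mk' (fun v => AddMonoidHom.mk' (fun t => v • el' t) (fun t t' => by rw [map_add, smul_add]))
      (fun v v' => AddMonoidHom.ext fun t => add_smul v v' _)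
  let Θ : Z.presheaf.stalk z ⊗[Γ(Y', U')] N →+ St ((Scheme.Modules.pullback i).obj (Omega.conormal j)) z :=
    TensorProduct.liftAddHom F fun r v t => by
      show (r • v) • el' t = v • el' (r • t)
      rw [hels, smul_smul, Algebra.smul_def, mul_comm]
  have hΘ : ∀ v t, Θ (v ⊗ₜ[Γ(Y', U')] t) = v • el' t := fun v t => rfl
  have hΘs : ∀ (v : Z.presheaf.stalk z) τ, ∃ τ', Θ τ' = v • Θ τ := fun v τ => by
    induction τ using TensorProduct.induction_on with
    | zero => exact ⟨0, (map_zero Θ).trans ((congrArg (fun x => v • x) (map_zero Θ)).trans (smul_zero v)).symm⟩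
    | tmul v' t => exact ⟨(v * v') ⊗ₜ t, by rw [hΘ, hΘ, smul_smul]⟩
    | add a a' ha ha' =>
      obtain ⟨s, hs⟩ := ha
      obtain ⟨s', hs'⟩ := ha'
      exact ⟨s + s', by rw [map_add, map_add, hs, hs', smul_add]⟩
  have hΘsurj : Function.Surjective Θ := by
    intro v
    have hv := mem_span_el j i z v
    induction hv using Submodule.span_induction with
    | mem v hv =>
      obtain ⟨μ, rfl⟩ := hv
      obtain ⟨a, ha⟩ := rep_exists j (j (i z)) μ
      obtain ⟨⟨r, s⟩, hrs⟩ := IsLocalization.surj (hU'.primeIdealOf ⟨j (i z), hyU'⟩).asIdeal.primeCompl a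
      have ha0 : j.stalkMap (i z) a = 0 := rep_mem j ha
      have hr0 : Y.presheaf.germ (j ⁻¹ᵁ U') (i z) hyU' (j.app U' r) = 0 := by
        rw [← Scheme.Hom.germ_stalkMap_apply]
        have := congrArg (j.stalkMap (i z)).hom hrs
        rw [map_mul, ha0, zero_mul] at this
        exact this.symm
      letI : Algebra Γ(Y, j ⁻¹ᵁ U') (Y.presheaf.stalk (i z)) := (Y.presheaf.germ (j ⁻¹ᵁ U') (i z) hyU').hom.toAlgebra
      haveI : IsLocalization.AtPrime (Y.presheaf.stalk (i z)) (hU.primeIdealOf ⟨i z, hyU'⟩).asIdeal :=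
        hU.isLocalization_stalk ⟨i z, hyU'⟩
      obtain ⟨⟨t₀, ht₀⟩, ht⟩ := (IsLocalization.map_eq_zero_iff
        (hU.primeIdealOf ⟨i z, hyU'⟩).asIdeal.primeCompl (Y.presheaf.stalk (i z)) _).1 hr0
      obtain ⟨t₁, ht₁⟩ := j.app_surjective U' hU' t₀
      let t : N := ⟨t₁ * r, show j.app U' (t₁ * r) = 0 by rw [map_mul, ht₁]; exact ht⟩
      let u := Y'.presheaf.germ U' _ hyU' t₁ * Y'.presheaf.germ U' _ hyU' s.1
      have hu : IsUnit (i.stalkMap z (j.stalkMap (i z) u)) := by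
        refine IsUnit.map _ ?_
        show IsUnit (j.stalkMap (i z) (_ * _))
        rw [map_mul]
        refine IsUnit.mul ?_ ((IsLocalization.map_units (Y'.presheaf.stalk (j (i z))) s).map (j.stalkMap (i z)).hom)
        rw [Scheme.Hom.germ_stalkMap_apply, ht₁]
        exact IsLocalization.map_units (Y.presheaf.stalk (i z))
          (⟨t₀, ht₀⟩ : (hU.primeIdealOf ⟨i z, hyU'⟩).asIdeal.primeCompl)
      have he : el' t = i.stalkMap z (j.stalkMap (i z) u) • el j i z μ := by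
        rw [← el_smul]
        refine congrArg (el j i z) (rep_inj j (hmm t) ?_)
        have h1 := rep_smul j ha u
        have h2 : u * a = Y'.presheaf.germ U' _ hyU' t.1 := by
          show _ * _ * a = Y'.presheaf.germ U' _ hyU' (t₁ * r)
          rw [map_mul, mul_assoc, mul_comm (Y'.presheaf.germ U' _ hyU' s.1) a]
          exact congrArg _ hrs
        exact h2 ▸ h1
      refine ⟨(↑hu.unit⁻¹ : Z.presheaf.stalk z) ⊗ₜ t, ?_⟩
      rw [hΘ, he, smul_smul, IsUnit.val_inv_mul, one_smul]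
    | zero => exact ⟨0, map_zero _⟩
    | add a a' _ _ ha ha' =>
      obtain ⟨s, rfl⟩ := ha
      obtain ⟨s', rfl⟩ := ha'
      exact ⟨s + s', map_add _ _ _⟩
    | smul v a _ ha =>
      obtain ⟨s, rfl⟩ := ha
      exact hΘs v s
  let Pi' := (stalkPullbackIso i' z).app (I i')
  have key : ∀ τ : P ⊗[Γ(Y', U')] N, ∃ (n' : St (I i') (i' z)) (a : Z'.presheaf.stalk (i' z)), Rep i' (i' z) n' a ∧
      Pi'.hom ((DerSch.stalkFunctor Z z).map ψ₁ (Θ (φ.toLinearMap.rTensor N τ))) = unit1 i' z n' ∧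
      β a = mk (TensorProduct.rid Γ(Y', U') P (N.subtype.lTensor P τ)) := by
    intro τ
    induction τ using TensorProduct.induction_on with
    | zero => exact ⟨0, 0, rep_zero i' _, by
        rw [map_zero, map_zero, map_zero, map_zero]; exact (map_zero _).symm, by simp⟩
    | tmul p t =>
      obtain ⟨ν, hν, hνe⟩ := map_el i' j m i wm z ψ₁ hψ₁ (mm t) _ (hmm t)
      obtain ⟨a₀, ha₀⟩ := i'.stalkMap_surjective z (φ p)
      refine ⟨a₀ • ν, _, rep_smul i' hν a₀, ?_, ?_⟩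
      · rw [unit1_smul, ← hνe, ha₀]
        show Pi'.hom ((DerSch.stalkFunctor Z z).map ψ₁ (φ p • el j i z (mm t))) = _
        rw [map_smul]
        exact map_smul Pi'.hom.hom _ _
      · rw [map_mul, hβδ, hL]
        show _ = mk (((t : Γ(Y', U')) • p : P))
        rw [Algebra.smul_def, mul_comm _ p, map_mul]
        rw [← sub_eq_zero, ← sub_mul]
        obtain ⟨p₀, hp₀⟩ := Ideal.Quotient.mk_surjective (β a₀)
        rw [← hp₀, ← map_sub, ← map_mul, Ideal.Quotient.eq_zero_iff_mem, pow_two]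
        refine Ideal.mul_mem_mul ?_ ?_
        · show φ (p₀ - p) = 0
          rw [map_sub, show φ p₀ = q (mk p₀) from rfl, show mk p₀ = β a₀ from hp₀, hqβ, ha₀, sub_self]
        · show (algebraMap Γ(Y', U') P) t ∈ RingHom.ker φ.toRingHom
          rw [hker]
          exact Ideal.mem_sup_right (hπk ▸ Ideal.mem_map_of_mem _ t.2)
    | add τ τ' h h' =>
      obtain ⟨n₁, a₁, r₁, e₁, f₁⟩ := h
      obtain ⟨n₂, a₂, r₂, e₂, f₂⟩ := h'
      refine ⟨n₁ + n₂, a₁ + a₂, rep_add i' r₁ r₂, ?_, by rw [map_add, f₁, f₂, map_add, map_add, map_add]⟩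
      rw [map_add, map_add, map_add, map_add, e₁, e₂]
      exact (map_add _ n₁ n₂).symm
  obtain ⟨σ, rfl⟩ := hΘsurj w
  obtain ⟨τ, rfl⟩ := LinearMap.rTensor_surjective N (show Function.Surjective φ.toLinearMap from hφ) σ
  obtain ⟨n', a, ha, he, hf'⟩ := key τ
  have h0 : unit1 i' z n' = 0 := he.symm.trans ((congrArg Pi'.hom hw).trans (map_zero _))
  have h3 := mem_sq_of_unit1_eq_zero i' (i'.stalkMap_surjective z) ha h0
  have h4 : a = 0 := Ideal.mem_bot.1 (huZ.2.1.le h3)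
  rw [h4, map_zero] at hf'
  rw [tensor_eq_zero_of_mem_sq φ N hN π hπ hπk f hf hker τ (Ideal.Quotient.eq_zero_iff_mem.1 hf'.symm), map_zero]

end Groth.Agent.UnivThick
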