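import Groth.Agent.UnivThick.Transitivity
import Groth.Agent.MorLib.FormallyEtaleHom
import Groth.Agent.S9371
import Groth.Agent.Synt29.RibbonClosed

/-!
Local splitting of the conormal sequence of universal thickenings for a formally smooth morphism.
-/

set_option autoImplicit false
set_option backward.isDefEq.respectTransparency false
set_option backward.isDefEq.respectTransparency.types false
set_option maxRecDepth 4000

universe u

open CategoryTheory CategoryTheory.Limits AlgebraicGeometry TopologicalSpace Opposite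
open scoped TensorProduct

namespace Groth.Agent.UnivThick

open Synt29.OmegaStalk Synt29.ConormalStalk Synt29.ConormalExact Synt29.ConormalSeq Synt29.ConormalBC
open Groth.Agent.KFlatLib

/-- An element of a stalk, pulled back. -/
noncomputable def pl {T Z : Scheme.{u}} (g : T ⟶ Z) (M : Z.Modules) (x : T) (v : St M (g x)) :
    St ((Scheme.Modules.pullback g).obj M) x :=
  ((stalkPullbackIso g x).app M).inv
    (((ModuleCat.extendRestrictScalarsAdj (g.stalkMap x).hom).unit.app _).hom v)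

theorem map_pl {T Z : Scheme.{u}} (g : T ⟶ Z) {M N : Z.Modules} (ψ : M ⟶ N) (x : T) (v : St M (g x)) :
    (DerSch.stalkFunctor T x).map ((Scheme.Modules.pullback g).map ψ) (pl g M x v) =
      pl g N x ((DerSch.stalkFunctor Z (g x)).map ψ v) := by
  have h1 := congr($((stalkPullbackIso g x).inv.naturality ψ)
    (((ModuleCat.extendRestrictScalarsAdj (g.stalkMap x).hom).unit.app _).hom v))
  have h2 := congr($((ModuleCat.extendRestrictScalarsAdj (g.stalkMap x).hom).unit.naturality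
    ((DerSch.stalkFunctor Z (g x)).map ψ)) v)
  exact h1.symm.trans (congrArg (fun t => ((stalkPullbackIso g x).app N).inv t) h2.symm)

theorem pl_surjective {T Z : Scheme.{u}} (g : T ⟶ Z) (M : Z.Modules) (x : T)
    (hg : Function.Surjective (g.stalkMap x)) : Function.Surjective (pl g M x) := fun w => by
  obtain ⟨v, hv⟩ := exists_unit g x hg M w
  refine ⟨v, ?_⟩
  show ((stalkPullbackIso g x).app M).inv _ = w
  rw [← hv]
  exact Iso.hom_inv_id_apply ((stalkPullbackIso g x).app M) w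

theorem pl_zero {T Z : Scheme.{u}} (g : T ⟶ Z) (M : Z.Modules) (x : T) : pl g M x 0 = 0 :=
  (congrArg ((stalkPullbackIso g x).app M).inv (map_zero _)).trans (map_zero _)

theorem tr_bijective {P Q : Scheme.{u}} (f : P ⟶ Q) [IsOpenImmersion f] (p : P) (q : Q) (h : f p = q) :
    Function.Bijective (tr f p q h) := by
  subst h
  rw [tr_rfl]
  exact ConcreteCategory.bijective_of_isIso _

/-- The left inverse given by a section. -/
theorem exists_retraction {Z Z' Z'' : Scheme.{u}} (i' : Z ⟶ Z') (k : Z' ⟶ Z'') (i'' : Z ⟶ Z'')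
    [IsClosedImmersion i'] [IsClosedImmersion i''] (h2 : i''.ker * i''.ker = ⊥)
    (ψ : (Scheme.Modules.pullback (𝟙 Z)).obj (Omega.conormal i'') ⟶ Omega.conormal i')
    (hψ : OmegaSh.IsConormalMap i' i'' k (𝟙 Z) ψ)
    (V : Z''.Opens) (s : V.toScheme ⟶ Z') (hs₁ : (i'' ∣_ V) ≫ s = (i'' ⁻¹ᵁ V).ι ≫ i') (hs₂ : s ≫ k = V.ι) :
    ∃ r : (Scheme.Modules.restrictFunctor (i'' ⁻¹ᵁ V).ι).obj (Omega.conormal i') ⟶
        (Scheme.Modules.restrictFunctor (i'' ⁻¹ᵁ V).ι).obj
          ((Scheme.Modules.pullback (𝟙 Z)).obj (Omega.conormal i'')),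
      (Scheme.Modules.restrictFunctor (i'' ⁻¹ᵁ V).ι).map ψ ≫ r = 𝟙 _ := by
  let U := i'' ⁻¹ᵁ V
  let iU : U.toScheme ⟶ V.toScheme := i'' ∣_ V
  haveI : IsClosedImmersion iU := IsZariskiLocalAtTarget.restrict (P := @IsClosedImmersion) inferInstance V
  obtain ⟨φr, hφr, -⟩ := S9371.result iU i' s U.ι hs₁.symm
  let A := (Scheme.Modules.pullback U.ι).map ψ ≫ φr
  have wk : 𝟙 Z ≫ i'' = i' ≫ k := hψ.1
  have ws : U.ι ≫ i' = iU ≫ s := hs₁.symm
  haveI : IsIso A := by
    refine isIso_of_stalk _ fun x => ?_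
    rw [ConcreteCategory.isIso_iff_bijective]
    have pV : V.ι (iU x) = i'' (U.ι x) := congr($(morphismRestrict_ι i'' V) x)
    have hcomp : ∀ a : Z''.presheaf.stalk (i'' (U.ι x)),
        δ iU i' s U.ι ws x (δ i' i'' k (𝟙 Z) wk (U.ι x) a) = tr V.ι (iU x) (i'' (U.ι x)) pV a := fun a => by
      rw [δ_eq_tr, δ_eq_tr]
      erw [tr_comp, tr_congr hs₂]
      rfl
    have hbij : Function.Bijective (tr V.ι (iU x) (i'' (U.ι x)) pV) := tr_bijective _ _ _ _
    have hker : ∀ a, iU.stalkMap x (tr V.ι (iU x) (i'' (U.ι x)) pV a) = 0 ↔ i''.stalkMap (U.ι x) a = 0 := fun a => by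
      have e1 : iU.stalkMap x (tr V.ι (iU x) (i'' (U.ι x)) pV a) = U.ι.stalkMap x (i''.stalkMap (U.ι x) a) := by
        rw [← tr_rfl iU x, tr_comp, ← tr_rfl i'' (U.ι x), ← tr_rfl U.ι x, tr_comp,
          tr_congr (morphismRestrict_ι i'' V)]
      rw [e1]
      exact map_eq_zero_iff _ (ConcreteCategory.bijective_of_isIso (U.ι.stalkMap x)).1
    let PU := (stalkPullbackIso iU x).app (I iU)
    let P'' := (stalkPullbackIso i'' (U.ι x)).app (I i'')
    let gen : St (I i'') (i'' (U.ι x)) → St ((Scheme.Modules.pullback U.ι).obj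
        ((Scheme.Modules.pullback (𝟙 Z)).obj (Omega.conormal i''))) x :=
      fun m => pl U.ι _ x (up (Omega.conormal i'') (U.ι x) (P''.inv (unit1 i'' (U.ι x) m)))
    have hgen : Function.Surjective gen := fun w => by
      obtain ⟨v, rfl⟩ := pl_surjective U.ι _ x (ConcreteCategory.bijective_of_isIso (U.ι.stalkMap x)).2 w
      obtain ⟨t, rfl⟩ := up_surjective _ (U.ι x) v
      obtain ⟨m, hm⟩ := unit1_surjective i'' (U.ι x) (P''.hom t)
      refine ⟨m, ?_⟩
      show pl U.ι _ x (up _ _ (P''.inv _)) = _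
      rw [hm]
      exact congrArg (fun z => pl U.ι _ x (up _ (U.ι x) z)) (Iso.hom_inv_id_apply P'' t)
    have hval : ∀ (m : St (I i'') (i'' (U.ι x))) a, Rep i'' (i'' (U.ι x)) m a →
        ∃ nU, Rep iU (iU x) nU (tr V.ι (iU x) (i'' (U.ι x)) pV a) ∧
          PU.hom ((DerSch.stalkFunctor U.toScheme x).map A (gen m)) = unit1 iU x nU := by
      intro m a ha
      obtain ⟨n', hn', he'⟩ := map_el i' i'' k (𝟙 Z) wk (U.ι x) ψ hψ m a ha
      obtain ⟨nU, hnU, heU⟩ := map_el iU i' s U.ι ws x φr hφr n' _ hn'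
      rw [hcomp] at hnU
      refine ⟨nU, hnU, ?_⟩
      refine Eq.trans (congrArg PU.hom ?_) heU
      show (DerSch.stalkFunctor U.toScheme x).map ((Scheme.Modules.pullback U.ι).map ψ ≫ φr) (pl U.ι _ x _) = _
      rw [Functor.map_comp, ModuleCat.comp_apply, map_pl]
      refine congrArg _ ?_
      show pl U.ι _ x _ = pl U.ι _ x (((stalkPullbackIso i' (U.ι x)).app (I i')).inv (unit1 i' (U.ι x) n'))
      refine congrArg _ ?_
      rw [← he']
      exact (Iso.hom_inv_id_apply ((stalkPullbackIso i' (U.ι x)).app (I i')) _).symm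
    constructor
    · refine (injective_iff_map_eq_zero _).2 fun w hw => ?_
      obtain ⟨m, rfl⟩ := hgen w
      obtain ⟨a, ha⟩ := rep_exists i'' (i'' (U.ι x)) m
      obtain ⟨nU, hnU, he⟩ := hval m a ha
      have h0 : unit1 iU x nU = 0 := he.symm.trans ((congrArg PU.hom hw).trans (map_zero _))
      have h3 := mem_sq_of_unit1_eq_zero iU (iU.stalkMap_surjective x) hnU h0
      have h4 : tr V.ι (iU x) (i'' (U.ι x)) pV a = 0 := by
        rw [← Ideal.mem_bot]
        refine (le_of_eq ?_ : RingHom.ker (iU.stalkMap x).hom ^ 2 ≤ ⊥) h3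
        rw [eq_bot_iff, pow_two, Ideal.mul_le]
        intro c hc d hd
        obtain ⟨c, rfl⟩ := hbij.2 c
        obtain ⟨d, rfl⟩ := hbij.2 d
        rw [Ideal.mem_bot, ← map_mul, Synt29.RibbonClosed.mul_eq_zero_of_stalkMap i'' (by rw [pow_two]; exact h2)
          (U.ι x) c d ((hker c).1 hc) ((hker d).1 hd), map_zero]
      have h5 : a = 0 := hbij.1 (h4.trans (map_zero _).symm)
      subst h5
      rw [rep_inj i'' ha (rep_zero i'' _)]
      show pl U.ι _ x (up _ _ (P''.inv _)) = 0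
      have e1 : unit1 i'' (U.ι x) 0 = 0 := map_zero _
      rw [e1, map_zero P''.inv.hom]
      have e2 : up (Omega.conormal i'') (U.ι x) 0 = 0 := (congrArg _ (map_zero _)).trans (map_zero _)
      exact (congrArg (pl U.ι _ x) e2).trans (pl_zero U.ι _ x)
    · intro z
      obtain ⟨W, hx, kk, rfl⟩ := exists_conormalSect iU x z
      have hrep : Rep iU (iU x) (gm (I iU) hx kk)
          (V.toScheme.presheaf.germ W (iU x) hx (OmegaSh.idealSect iU.ker W kk)) := ⟨W, hx, kk, rfl, rfl⟩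
      obtain ⟨a, ha⟩ := hbij.2 (V.toScheme.presheaf.germ W (iU x) hx (OmegaSh.idealSect iU.ker W kk))
      have ha0 : i''.stalkMap (U.ι x) a = 0 := (hker a).1 (by rw [ha]; exact rep_mem iU hrep)
      obtain ⟨m, hm⟩ := exists_rep i'' ha0
      obtain ⟨nU, hnU, he⟩ := hval m a hm
      rw [ha] at hnU
      rw [rep_inj iU hnU hrep] at he
      exact ⟨gen m, (ConcreteCategory.bijective_of_isIso PU.hom).1
        (he.trans (stalkPullbackIso_gm iU (I iU) x hx kk).symm)⟩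
  let η := Scheme.Modules.restrictFunctorIsoPullback U.ι
  refine ⟨η.hom.app _ ≫ φr ≫ inv A ≫ η.inv.app _, ?_⟩
  have hnat : (Scheme.Modules.restrictFunctor U.ι).map ψ ≫ η.hom.app _ =
      η.hom.app _ ≫ (Scheme.Modules.pullback U.ι).map ψ := η.hom.naturality ψ
  rw [reassoc_of% hnat]
  have : (Scheme.Modules.pullback U.ι).map ψ ≫ φr ≫ inv A ≫ η.inv.app _ = η.inv.app _ := by
    rw [← Category.assoc, ← Category.assoc, show (Scheme.Modules.pullback U.ι).map ψ ≫ φr = A from rfl,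
      IsIso.hom_inv_id, Category.id_comp]
  rw [this, Iso.hom_inv_id_app]

/-- The conormal sequence for a formally smooth morphism is short exact and locally split. -/
theorem shortExact_split {Z X Y Z' Z'' : Scheme.{u}} (i : Z ⟶ X) (p : X ⟶ Y)
    (hp : MoreMor.IsFormallySmoothHom p) (i' : Z ⟶ Z') (a : Z' ⟶ X) (hZ' : OmegaSh.IsUnivThickening i i' a)
    (i'' : Z ⟶ Z'') (b : Z'' ⟶ Y) (hZ'' : OmegaSh.IsUnivThickening (i ≫ p) i'' b)
    (k : Z' ⟶ Z'') (hk₁ : i' ≫ k = i'') (hk₂ : k ≫ b = a ≫ p)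
    (Ω : Z'.Modules) (d : OmegaSh.Der k Ω) (hd : OmegaSh.IsUniversal d)
    (ψ : (Scheme.Modules.pullback (𝟙 Z)).obj (Omega.conormal i'') ⟶ Omega.conormal i')
    (hψ : OmegaSh.IsConormalMap i' i'' k (𝟙 Z) ψ)
    (φ : Omega.conormal i' ⟶ (Scheme.Modules.pullback i').obj Ω) (hφ : OmegaSh.IsConormalDiff i' d φ) :
    ∃ w : ψ ≫ φ = 0, (ShortComplex.mk ψ φ w).ShortExact ∧
      ∀ z : Z, ∃ (U : Z.Opens) (r : (Scheme.Modules.restrictFunctor U.ι).obj (Omega.conormal i') ⟶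
          (Scheme.Modules.restrictFunctor U.ι).obj ((Scheme.Modules.pullback (𝟙 Z)).obj (Omega.conormal i''))),
        z ∈ U ∧ (Scheme.Modules.restrictFunctor U.ι).map ψ ≫ r = 𝟙 _ := by
  subst hk₁
  haveI := hZ'.1.1.1
  haveI := hZ''.1.1.1
  obtain ⟨w, hex, hepi⟩ := Synt29.ConormalExact.exact_and_epi k i' ψ hψ Ω d hd φ hφ
  have hsplit : ∀ z : Z, ∃ (U : Z.Opens) (r : (Scheme.Modules.restrictFunctor U.ι).obj (Omega.conormal i') ⟶
      (Scheme.Modules.restrictFunctor U.ι).obj ((Scheme.Modules.pullback (𝟙 Z)).obj (Omega.conormal (i' ≫ k)))),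
        z ∈ U ∧ (Scheme.Modules.restrictFunctor U.ι).map ψ ≫ r = 𝟙 _ := by
    intro z
    obtain ⟨V, hV, hzV, -⟩ := exists_isAffineOpen_mem_and_subset (x := (i' ≫ k) z) (U := (⊤ : Z''.Opens)) (by simp)
    haveI : IsAffine V.toScheme := hV
    have hVu := isUniv_open hZ'' V
    obtain ⟨l, hl₁, hl₂⟩ := MorLib.exists_lift_of_isAffine hp ((i' ≫ k) ∣_ V) hVu.1
      (((i' ≫ k) ⁻¹ᵁ V).ι ≫ i) (V.ι ≫ b) (by rw [hVu.2.1, Category.assoc])
    obtain ⟨s, ⟨hs₁, hs₂⟩, -⟩ := hZ'.2.2 _ _ ((i' ≫ k) ∣_ V) l (((i' ≫ k) ⁻¹ᵁ V).ι) hVu.1 hl₁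
    have hsk : s ≫ k = V.ι := by
      refine univ_hom_ext hZ'' hVu.1 (((i' ≫ k) ⁻¹ᵁ V).ι) ?_ (morphismRestrict_ι _ _) ?_
      · rw [reassoc_of% hs₁]
      · rw [Category.assoc, hk₂, reassoc_of% hs₂, hl₂]
    obtain ⟨r, hr⟩ := exists_retraction i' k (i' ≫ k) hZ''.1.2 ψ hψ V s hs₁ hsk
    exact ⟨(i' ≫ k) ⁻¹ᵁ V, r, hzV, hr⟩
  refine ⟨w, ShortComplex.ShortExact.mk' hex ?_ hepi, hsplit⟩
  rw [mono_iff_stalk]
  intro z
  obtain ⟨U, r, hzU, hr⟩ := hsplit z
  refine (injective_iff_map_eq_zero _).2 fun m hm => ?_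
  obtain ⟨W, hzW, t, rfl⟩ := gm_surjective _ m
  have h0 : gm (Omega.conormal i') hzW (ψ.app W t) = gm (Omega.conormal i') hzW 0 := by
    rw [map_zero]
    exact (DerSch.stalkFunctor_map_germ z ψ W hzW t).symm.trans hm
  obtain ⟨T, hzT, j₁, j₂, e⟩ := TopCat.Presheaf.germ_eq (Omega.conormal i').presheaf z hzW hzW _ _ h0
  rw [map_zero] at e
  let T₀ := T ⊓ U
  let t₀ := ((Scheme.Modules.pullback (𝟙 Z)).obj (Omega.conormal (i' ≫ k))).presheaf.map
    (homOfLE (inf_le_left.trans j₁.le : T₀ ≤ W)).op t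
  have h1 : ψ.app T₀ t₀ = 0 := by
    refine (congr($(ψ.mapPresheaf.naturality (homOfLE (inf_le_left.trans j₁.le : T₀ ≤ W)).op) t)).trans ?_
    rw [show homOfLE (inf_le_left.trans j₁.le : T₀ ≤ W) = homOfLE (inf_le_left : T₀ ≤ T) ≫ j₁ from rfl,
      op_comp, Functor.map_comp]
    exact (congrArg ((Omega.conormal i').presheaf.map (homOfLE (inf_le_left : T₀ ≤ T)).op).hom e).trans
      (map_zero ((Omega.conormal i').presheaf.map (homOfLE (inf_le_left : T₀ ≤ T)).op).hom)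
  have hU₀ : U.ι ''ᵁ (U.ι ⁻¹ᵁ T₀) = T₀ := by
    rw [Scheme.Hom.image_preimage_eq_opensRange_inf, Scheme.Opens.opensRange_ι]
    exact inf_eq_right.2 inf_le_right
  have key : ∀ (T₁ : Z.Opens) (hT₁ : U.ι ''ᵁ (U.ι ⁻¹ᵁ T₀) = T₁)
      (u : Γ((Scheme.Modules.pullback (𝟙 Z)).obj (Omega.conormal (i' ≫ k)), T₁)), ψ.app T₁ u = 0 → u = 0 := by
    intro T₁ hT₁
    subst hT₁
    intro u hu
    have h2 := congr(($hr).app (U.ι ⁻¹ᵁ T₀) u)
    exact h2.symm.trans ((congrArg (r.app (U.ι ⁻¹ᵁ T₀)) hu).trans (map_zero _))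
  have h3 : t₀ = 0 := key T₀ hU₀ t₀ h1
  rw [← gm_res _ (homOfLE (inf_le_left.trans j₁.le : T₀ ≤ W)) (show z ∈ T₀ from ⟨hzT, hzU⟩) t]
  show gm _ _ t₀ = 0
  rw [h3, map_zero]

end Groth.Agent.UnivThick
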