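import Groth.Agent.KRegLib.Mor
import Groth.Agent.KRegLib.Kinds
import Groth.Agent.KoszulFlatLib.OfExact
import Groth.Agent.UnivThick.Stalk

/-!
A flat model over a square-zero extension of the base for a local complete intersection.
-/

set_option autoImplicit false
set_option linter.style.haveILetI false

universe u

open TensorProduct

namespace Groth.Agent.UnivThick

/-- Elements of a square-zero ideal lying in the square of `(f) + K`, where `f` is `H₁`-regular modulo `K`, lie in
`((f) + K) K`. -/
theorem mem_mul_of_mem_sq {P P₀ : Type u} [CommRing P] [CommRing P₀] (π : P →+* P₀) (hπ : Function.Surjective π)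
    (hK : RingHom.ker π * RingHom.ker π = ⊥) {c : ℕ} (f : Fin c → P) (hf : CAlgX.IsH1Regular fun k => π (f k))
    (x : P) (hx : x ∈ RingHom.ker π)
    (h2 : x ∈ (Ideal.span (Set.range f) ⊔ RingHom.ker π) ^ 2) :
    x ∈ (Ideal.span (Set.range f) ⊔ RingHom.ker π) * RingHom.ker π := by
  classical
  let K := RingHom.ker π
  let F := Ideal.span (Set.range f)
  let J := F ⊔ K
  have hrow : ∀ u ∈ Submodule.span P₀
      {v : Fin c → P₀ | ∃ i j : Fin c, v = Pi.single i (π (f j)) - Pi.single j (π (f i))},
      ∃ e : Fin c → P, ∑ l, e l * f l = 0 ∧ ∀ l, π (e l) = u l := by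
    intro u hu
    induction hu using Submodule.span_induction with
    | mem u hu =>
      obtain ⟨i, j, rfl⟩ := hu
      refine ⟨Pi.single i (f j) - Pi.single j (f i), ?_, fun l => ?_⟩
      · simp only [Pi.sub_apply, sub_mul, Finset.sum_sub_distrib, Pi.single_apply, ite_mul, zero_mul,
          Finset.sum_ite_eq', Finset.mem_univ, if_true]
        ring
      · simp only [Pi.sub_apply, map_sub, Pi.single_apply]
        split_ifs <;> simp
    | zero => exact ⟨0, by simp, fun l => map_zero π⟩
    | add u u' _ _ e e' =>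
      obtain ⟨a, ha, hau⟩ := e
      obtain ⟨a', ha', hau'⟩ := e'
      exact ⟨a + a', by simp only [Pi.add_apply, add_mul, Finset.sum_add_distrib, ha, ha', add_zero],
        fun l => by simp only [Pi.add_apply, map_add, hau, hau']⟩
    | smul r u _ e =>
      obtain ⟨a, ha, hau⟩ := e
      obtain ⟨r', rfl⟩ := hπ r
      exact ⟨fun l => r' * a l, by simp only [mul_assoc, ← Finset.mul_sum, ha, mul_zero],
        fun l => by simp only [map_mul, hau, Pi.smul_apply, smul_eq_mul]⟩
  obtain ⟨y, hy, z, hz, rfl⟩ : ∃ y ∈ F * F, ∃ z ∈ J * K, y + z = x := by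
    have hle : J ^ 2 ≤ F * F ⊔ J * K := by
      rw [pow_two]
      refine Ideal.mul_le.2 fun a ha b hb => ?_
      obtain ⟨a₁, ha₁, a₂, ha₂, rfl⟩ := Submodule.mem_sup.1 ha
      obtain ⟨b₁, hb₁, b₂, hb₂, rfl⟩ := Submodule.mem_sup.1 hb
      rw [add_mul, mul_add]
      refine add_mem (add_mem (Ideal.mem_sup_left (Ideal.mul_mem_mul ha₁ hb₁))
        (Ideal.mem_sup_right (Ideal.mul_mem_mul (Ideal.mem_sup_left ha₁) hb₂))) (Ideal.mem_sup_right ?_)
      rw [mul_comm a₂]
      exact Ideal.mul_mem_mul (add_mem (Ideal.mem_sup_left hb₁) (Ideal.mem_sup_right hb₂)) ha₂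
    exact Submodule.mem_sup.1 (hle h2)
  have hyK : y ∈ K := by
    have := sub_mem hx (show z ∈ K from Ideal.mul_le_right hz)
    rwa [add_sub_cancel_right] at this
  refine add_mem ?_ hz
  rw [show F = Ideal.span (Set.range f) from rfl, ← smul_eq_mul] at hy
  obtain ⟨v, hv, hvy⟩ := (Submodule.mem_ideal_smul_span_iff_exists_sum _ f _).1 hy
  choose a ha using fun l => Ideal.mem_span_range_iff_exists_fun.1 (hv l)
  have hy' : y = ∑ l, (∑ k, a l k * f k) * f l := by
    rw [← hvy, Finsupp.sum_fintype _ _ (by simp)]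
    exact Finset.sum_congr rfl fun l _ => by rw [ha l, smul_eq_mul]
  -- first correction
  have h1 : (fun l => π (∑ k, a l k * f k)) ∈ Submodule.span P₀
      {v : Fin c → P₀ | ∃ i j : Fin c, v = Pi.single i (π (f j)) - Pi.single j (π (f i))} := by
    refine hf _ ?_
    have := RingHom.mem_ker.1 hyK
    rw [hy', map_sum] at this
    simpa only [map_mul] using this
  obtain ⟨b, hb0, hb⟩ : ∃ b : Fin c → Fin c → P, ∑ l, (∑ k, b l k * f k) * f l = 0 ∧
      ∀ l, π (∑ k, b l k * f k) = π (∑ k, a l k * f k) := by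
    have gen : ∀ u ∈ Submodule.span P₀
        {v : Fin c → P₀ | ∃ i j : Fin c, v = Pi.single i (π (f j)) - Pi.single j (π (f i))},
        ∃ b : Fin c → Fin c → P, ∑ l, (∑ k, b l k * f k) * f l = 0 ∧ ∀ l, π (∑ k, b l k * f k) = u l := by
      intro u hu
      induction hu using Submodule.span_induction with
      | mem u hu =>
        obtain ⟨i, j, rfl⟩ := hu
        refine ⟨fun l => (if l = i then Pi.single j 1 else 0) - (if l = j then Pi.single i 1 else 0), ?_, fun l => ?_⟩
        · simp only [Pi.sub_apply, sub_mul, Finset.sum_sub_distrib, ite_apply, Pi.zero_apply, Pi.single_apply,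
            ite_mul, zero_mul, one_mul, Finset.sum_ite_irrel, Finset.sum_ite_eq', Finset.mem_univ, if_true,
            Finset.sum_const_zero]
          ring
        · simp only [Pi.sub_apply, sub_mul, Finset.sum_sub_distrib, ite_apply, Pi.zero_apply, Pi.single_apply,
            ite_mul, zero_mul, one_mul, Finset.sum_ite_irrel, Finset.sum_ite_eq', Finset.mem_univ, if_true,
            Finset.sum_const_zero, map_sub]
          split_ifs <;> simp
      | zero => exact ⟨0, by simp, fun l => by simp⟩
      | add u u' _ _ e e' =>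
        obtain ⟨b, hb, hbu⟩ := e
        obtain ⟨b', hb', hbu'⟩ := e'
        exact ⟨b + b', by simp only [Pi.add_apply, add_mul, Finset.sum_add_distrib, hb, hb', add_zero],
          fun l => by simp only [Pi.add_apply, add_mul, Finset.sum_add_distrib, map_add, hbu, hbu']⟩
      | smul r u _ e =>
        obtain ⟨b, hb, hbu⟩ := e
        obtain ⟨r', rfl⟩ := hπ r
        refine ⟨fun l k => r' * b l k, ?_, fun l => ?_⟩
        · simp only [mul_assoc, ← Finset.mul_sum, hb, mul_zero]
        · simp only [mul_assoc, ← Finset.mul_sum, map_mul, hbu, Pi.smul_apply, smul_eq_mul]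
    exact gen _ h1
  let d : Fin c → Fin c → P := fun l k => a l k - b l k
  have hd : ∀ l, ∑ k, π (d l k) * π (f k) = 0 := fun l => by
    simp only [← map_mul, ← map_sum, d, sub_mul, Finset.sum_sub_distrib, map_sub, hb, sub_self]
  choose e he0 he using fun l => hrow _ (hf (fun k => π (d l k)) (hd l))
  have hyd : y = ∑ l, (∑ k, (d l k - e l k) * f k) * f l := by
    simp only [d, sub_mul, Finset.sum_sub_distrib, he0, Finset.sum_const_zero, hb0, sub_zero]
    exact hy'
  rw [hyd]
  refine sum_mem fun l _ => ?_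
  rw [mul_comm _ (f l)]
  refine Ideal.mul_mem_mul (Ideal.mem_sup_left (Ideal.subset_span ⟨l, rfl⟩)) (sum_mem fun k _ => ?_)
  refine Ideal.mul_mem_right _ K (RingHom.mem_ker.2 ?_)
  rw [map_sub, he, sub_self]

/-- The key injectivity: classes in `N ⊗ B` are detected in `P/J²`. -/
theorem tensor_eq_zero_of_mem_sq {C P B P₀ : Type u} [CommRing C] [CommRing P] [CommRing B] [CommRing P₀] [Algebra C P]
    [Algebra C B] [Module.Flat C P] (φ : P →ₐ[C] B) (N : Ideal C) (hN : N * N = ⊥)
    (π : P →+* P₀) (hπ : Function.Surjective π) (hπk : RingHom.ker π = N.map (algebraMap C P)) {c : ℕ} (f : Fin c → P)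
    (hf : CAlgX.IsH1Regular fun k => π (f k)) (hker : RingHom.ker φ.toRingHom = Ideal.span (Set.range f) ⊔ RingHom.ker π)
    (τ : P ⊗[C] N) (hτ : TensorProduct.rid C P (N.subtype.lTensor P τ) ∈ RingHom.ker φ.toRingHom ^ 2) :
    φ.toLinearMap.rTensor N τ = 0 := by
  let μ : P ⊗[C] N →ₗ[C] P := (TensorProduct.rid C P).toLinearMap ∘ₗ N.subtype.lTensor P
  have hμt : ∀ (p : P) (n : N), μ (p ⊗ₜ n) = (n : C) • p := fun p n => rfl
  have hμi : Function.Injective μ := (TensorProduct.rid C P).injective.comp
    (Module.Flat.lTensor_preserves_injective_linearMap _ Subtype.val_injective)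
  have hK : RingHom.ker π * RingHom.ker π = ⊥ := by rw [hπk, ← Ideal.map_mul, hN, Ideal.map_bot]
  have hmem : ∀ τ, μ τ ∈ RingHom.ker π := fun τ => by
    induction τ using TensorProduct.induction_on with
    | zero => simp
    | tmul p n =>
      rw [hμt, Algebra.smul_def, hπk]
      exact Ideal.mul_mem_right _ _ (Ideal.mem_map_of_mem _ n.2)
    | add a b ha hb => rw [map_add]; exact add_mem ha hb
  have hmul : ∀ (r : P) τ, ∃ τ', μ τ' = r * μ τ ∧ φ.toLinearMap.rTensor N τ' =
      (LinearMap.mulLeft C (φ r)).rTensor N (φ.toLinearMap.rTensor N τ) := fun r τ => by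
    refine ⟨(LinearMap.mulLeft C r).rTensor N τ, ?_, ?_⟩
    · induction τ using TensorProduct.induction_on with
      | zero => simp
      | tmul p n => rw [LinearMap.rTensor_tmul, hμt, hμt, LinearMap.mulLeft_apply, mul_smul_comm]
      | add a b ha hb => rw [map_add, map_add, map_add, ha, hb, mul_add]
    · induction τ using TensorProduct.induction_on with
      | zero => simp
      | tmul p n => simp only [LinearMap.rTensor_tmul, LinearMap.mulLeft_apply, AlgHom.toLinearMap_apply, map_mul]
      | add a b ha hb => rw [map_add, map_add, map_add, map_add, ha, hb]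
  have hsurj : ∀ x ∈ RingHom.ker π, ∃ τ, μ τ = x := by
    intro x hx
    rw [hπk] at hx
    induction hx using Submodule.span_induction with
    | mem x hx =>
      obtain ⟨n, hn, rfl⟩ := hx
      exact ⟨1 ⊗ₜ ⟨n, hn⟩, by rw [hμt, Algebra.smul_def, mul_one]⟩
    | zero => exact ⟨0, map_zero _⟩
    | add a b _ _ ha hb =>
      obtain ⟨s, rfl⟩ := ha
      obtain ⟨t, rfl⟩ := hb
      exact ⟨s + t, map_add _ _ _⟩
    | smul r a _ ha =>
      obtain ⟨s, rfl⟩ := ha
      obtain ⟨t, ht, -⟩ := hmul r s
      exact ⟨t, ht⟩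
  have hz := mem_mul_of_mem_sq π hπ hK f hf (μ τ) (hmem τ) (hker ▸ hτ)
  rw [← hker] at hz
  have key : ∃ τ', μ τ' = μ τ ∧ φ.toLinearMap.rTensor N τ' = 0 := by
    clear hτ
    generalize μ τ = x at hz ⊢
    induction hz using Submodule.mul_induction_on' with
    | mem_mul_mem r hr x hx =>
      obtain ⟨t, rfl⟩ := hsurj x hx
      obtain ⟨t', ht, ht'⟩ := hmul r t
      refine ⟨t', ht, ?_⟩
      rw [ht', show φ r = 0 from hr, LinearMap.mulLeft_zero_eq_zero, LinearMap.rTensor_zero, LinearMap.zero_apply]
    | add a _ b _ ha hb =>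
      obtain ⟨s, rfl, hs⟩ := ha
      obtain ⟨t, rfl, ht⟩ := hb
      exact ⟨s + t, map_add _ _ _, by rw [map_add, hs, ht, add_zero]⟩
  obtain ⟨τ', h1, h2⟩ := key
  rwa [hμi h1] at h2

theorem ker_localization_map {R S R' S' : Type u} [CommRing R] [CommRing S] [CommRing R'] [CommRing S'] [Algebra R R']
    [Algebra S S'] {M : Submonoid R} {T : Submonoid S} [IsLocalization M R'] [IsLocalization T S'] (g : R →+* S)
    (hT : M.map g = T) :
    RingHom.ker (IsLocalization.map S' g (hT ▸ M.le_comap_map) : R' →+* S') = (RingHom.ker g).map (algebraMap R R') :=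
  IsLocalization.ker_map S' g hT

/-- A flat local model over a square-zero extension of the base. -/
theorem exists_model {C' C B Bq : Type u} [CommRing C'] [CommRing C] [CommRing B] [CommRing Bq] [Algebra C' C]
    [Algebra C B] [Algebra C' B] [IsScalarTower C' C B] [Algebra B Bq] [Algebra C' Bq] [IsScalarTower C' B Bq]
    (hj : Function.Surjective (algebraMap C' C)) (h : LCI.IsLCI C B) (𝔯 : Ideal B) [𝔯.IsPrime]
    [IsLocalization.AtPrime Bq 𝔯] :
    ∃ (P : Type u) (_ : CommRing P) (_ : IsLocalRing P) (_ : Algebra C' P) (_ : Module.Flat C' P)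
      (φ : P →ₐ[C'] Bq) (P₀ : Type u) (_ : CommRing P₀) (π : P →+* P₀) (c : ℕ) (f : Fin c → P),
      Function.Surjective φ ∧ Function.Surjective π ∧
      RingHom.ker π = (RingHom.ker (algebraMap C' C)).map (algebraMap C' P) ∧
      RingHom.ker φ.toRingHom = Ideal.span (Set.range f) ⊔ RingHom.ker π ∧
      CAlgX.IsH1Regular fun k => π (f k) := by
  obtain ⟨-, n, α, hα, hK⟩ := h
  let Q := MvPolynomial (Fin n) C
  let Q' := MvPolynomial (Fin n) C'
  let πp : Q' →+* Q := MvPolynomial.map (algebraMap C' C)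
  have hπp : Function.Surjective πp := MvPolynomial.map_surjective _ hj
  let q : Ideal Q := 𝔯.comap α.toRingHom
  let q' : Ideal Q' := q.comap πp
  have hM : q'.primeCompl.map πp.toMonoidHom = q.primeCompl := map_primeCompl_of_surjective πp hπp q q' rfl
  have hM2 : q.primeCompl.map α.toRingHom.toMonoidHom = 𝔯.primeCompl :=
    map_primeCompl_of_surjective α.toRingHom hα 𝔯 q rfl
  let P := Localization.AtPrime q'
  let P₀ := Localization.AtPrime q
  let π : P →+* P₀ := IsLocalization.map P₀ πp (hM ▸ q'.primeCompl.le_comap_map : q'.primeCompl ≤ q.primeCompl.comap πp)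
  let χ : P₀ →+* Bq :=
    IsLocalization.map Bq α.toRingHom (hM2 ▸ q.primeCompl.le_comap_map : q.primeCompl ≤ 𝔯.primeCompl.comap α.toRingHom)
  have hπ : Function.Surjective π := fun z => by
    obtain ⟨a, s, rfl⟩ := IsLocalization.exists_mk'_eq q.primeCompl z
    obtain ⟨a', rfl⟩ := hπp a
    obtain ⟨s', hs', hss⟩ := hM.ge s.2
    refine ⟨IsLocalization.mk' P a' ⟨s', hs'⟩, ?_⟩
    rw [IsLocalization.map_mk']
    congr 1
    exact Subtype.ext hss
  have hχ : Function.Surjective χ := fun z => by
    obtain ⟨a, s, rfl⟩ := IsLocalization.exists_mk'_eq 𝔯.primeCompl z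
    obtain ⟨a', rfl⟩ := hα a
    obtain ⟨s', hs', hss⟩ := hM2.ge s.2
    refine ⟨IsLocalization.mk' P₀ a' ⟨s', hs'⟩, ?_⟩
    rw [IsLocalization.map_mk']
    congr 1
    exact Subtype.ext hss
  let φ : P →ₐ[C'] Bq :=
    { χ.comp π with
      commutes' := fun a => by
        show χ (π (algebraMap C' P a)) = _
        rw [IsScalarTower.algebraMap_apply C' Q' P, IsLocalization.map_eq, IsLocalization.map_eq,
          IsScalarTower.algebraMap_apply C' B Bq, IsScalarTower.algebraMap_apply C' C B]
        congr 1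
        show α (MvPolynomial.map (algebraMap C' C) (MvPolynomial.C a)) = _
        rw [MvPolynomial.map_C]
        exact α.commutes _ }
  haveI : Module.Flat C' P := by
    haveI : Module.Flat Q' P := IsLocalization.flat P q'.primeCompl
    exact Module.Flat.trans C' Q' P
  obtain ⟨g, hg, hon⟩ := ((KRegLib.isKoszulRegularIdeal_iff _).1 hK q inferInstance fun x hx => by
    show α x ∈ 𝔯
    rw [show α x = 0 from hx]
    exact zero_mem _).exists_on
  haveI : Module.Flat Q P₀ := IsLocalization.flat P₀ q.primeCompl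
  obtain ⟨c, fs, hfs, hfI⟩ := hon P₀ (IsLocalization.map_units P₀ (⟨g, hg⟩ : q.primeCompl))
  have hseq := KoszulFlatLib.isKoszulRegularSeq_of_isExact hfs
  have hH1 := KRegLib.h1_of_koszul _ hseq
  choose f hf using fun k => hπ ((List.ofFn fs).get k)
  refine ⟨P, inferInstance, inferInstance, inferInstance, inferInstance, φ, P₀, inferInstance, π, _, f,
    hχ.comp hπ, hπ, ?_, ?_, ?_⟩
  · rw [show RingHom.ker π = (RingHom.ker πp).map (algebraMap Q' P) from ker_localization_map (M := q'.primeCompl) (R' := P) (S' := P₀) πp hM,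
      MvPolynomial.ker_map, Ideal.map_map]
    congr 1
  · have e : RingHom.ker φ.toRingHom = (RingHom.ker χ).comap π := rfl
    have hkχ : RingHom.ker χ = (RingHom.ker α.toRingHom).map (algebraMap Q P₀) :=
      ker_localization_map (M := q.primeCompl) (R' := P₀) (S' := Bq) α.toRingHom hM2
    have hsp : Ideal.span (Set.range fs) = (Ideal.span (Set.range f)).map π := by
      rw [Ideal.map_span, ← Set.range_comp, show (π ∘ f) = (List.ofFn fs).get from funext hf, Set.range_list_get]
      congr 1
      ext y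
      simp [List.mem_ofFn]
    rw [e, hkχ, hfI, hsp,
      Ideal.comap_map_of_surjective π hπ, ← RingHom.ker_eq_comap_bot]
  · exact (funext hf : (fun k => π (f k)) = (List.ofFn fs).get) ▸ hH1

end Groth.Agent.UnivThick
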